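import Mathlib.FieldTheory.Galois.Infinite
import Mathlib.FieldTheory.IsAlgClosed.Basic
import Mathlib.RingTheory.DiscreteValuationRing.Basic
import Mathlib.RingTheory.IntegralClosure.IntegrallyClosed
import Mathlib.RingTheory.Ideal.GoingUp
import Mathlib.RingTheory.Algebraic.Integral

/-!
# The ring of integers of an algebraic closure: the properties which are used
-/

set_option autoImplicit false
set_option linter.unusedSectionVars false
universe u v

open Polynomial

namespace K144.Tate

/-- the properties of the integral closure of a discrete valuation ring in an algebraic closure used below. -/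
structure Good (R O : Type u) [CommRing R] [CommRing O] [Algebra R O] : Prop where
  dvd : ∀ r s : R, algebraMap R O r ∣ algebraMap R O s → r ∣ s
  nz : ∀ a : O, a ≠ 0 → ∃ r : R, r ≠ 0 ∧ a ∣ algebraMap R O r
  split : ∀ f : R[X], f.Monic → ∃ s : Multiset O, f.map (algebraMap R O) = (s.map fun a => X - C a).prod
  fixed : ∀ a : O, (∀ σ : O ≃ₐ[R] O, σ a = a) → ∃ r, algebraMap R O r = a
  point : ∀ (D : Type u) [CommRing D] [Algebra R D] [Module.Finite R D] [Module.Free R D] [Nontrivial D],
    Nonempty (D →ₐ[R] O)

section

variable (R K Kb : Type u) [CommRing R] [IsDomain R] [IsIntegrallyClosed R] [CharZero R] [Field K] [Algebra R K]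
  [IsFractionRing R K] [Field Kb] [Algebra K Kb] [Algebra R Kb] [IsScalarTower R K Kb] [IsAlgClosed Kb]
  [Algebra.IsAlgebraic K Kb]

include K in
theorem inj_Kb : Function.Injective (algebraMap R Kb) := by
  rw [IsScalarTower.algebraMap_eq R K Kb]
  exact (algebraMap K Kb).injective.comp (IsFractionRing.injective R K)

include K in
theorem inj_O : Function.Injective (algebraMap R (integralClosure R Kb)) := by
  intro x y hxy
  apply inj_Kb R K Kb
  exact congrArg (fun z : integralClosure R Kb => (z : Kb)) hxy

variable {R} in
theorem exists_of_K (c : integralClosure R Kb) (x : K) (hx : algebraMap K Kb x = c) :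
    ∃ r, algebraMap R (integralClosure R Kb) r = c := by
  have h1 : IsIntegral R x := by
    have h2 : IsIntegral R (algebraMap K Kb x) := by rw [hx]; exact c.2
    exact (isIntegral_algebraMap_iff (algebraMap K Kb).injective).1 h2
  obtain ⟨r, hr⟩ := IsIntegrallyClosed.isIntegral_iff.1 h1
  refine ⟨r, Subtype.ext ?_⟩
  rw [← hx, ← hr]
  exact IsScalarTower.algebraMap_apply R K Kb r

include K in
theorem good : Good R (integralClosure R Kb) where
  dvd r s := by
    rintro ⟨c, hc⟩
    by_cases hr : r = 0
    · subst hr
      rw [map_zero, zero_mul] at hc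
      have : s = 0 := inj_O R K Kb (by rw [hc, map_zero])
      rw [this]
    · have hr' : algebraMap R K r ≠ 0 := fun h => hr ((IsFractionRing.injective R K) (by rw [h, map_zero]))
      obtain ⟨t, ht⟩ := exists_of_K K Kb c (algebraMap R K s / algebraMap R K r) (by
        rw [map_div₀, ← IsScalarTower.algebraMap_apply, ← IsScalarTower.algebraMap_apply]
        have h1 : algebraMap R Kb s = algebraMap R Kb r * c :=
          congrArg (fun z : integralClosure R Kb => (z : Kb)) hc
        have h2 : algebraMap R Kb r ≠ 0 := fun h => hr (inj_Kb R K Kb (by rw [h, map_zero]))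
        rw [h1, mul_div_cancel_left₀ _ h2])
      refine ⟨t, inj_O R K Kb ?_⟩
      rw [map_mul, ht, hc]
  nz a ha := by
    have h1 : IsAlgebraic R a := by
      have : IsIntegral R a := Algebra.IsIntegral.isIntegral a
      exact this.isAlgebraic
    obtain ⟨r, hr, h⟩ := h1.exists_nonzero_dvd (mem_nonZeroDivisors_of_ne_zero ha)
    exact ⟨r, hr, h⟩
  split f hf := by
    have h1 := (IsAlgClosed.splits (f.map (algebraMap R Kb)))
    have h2 := h1.eq_prod_roots_of_monic (hf.map _)
    have h3 : ∀ a ∈ (f.map (algebraMap R Kb)).roots, a ∈ integralClosure R Kb := by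
      intro a ha
      refine ⟨f, hf, ?_⟩
      have := (mem_roots (hf.map _).ne_zero).1 ha
      rw [IsRoot.def, eval_map] at this
      exact this
    refine ⟨(f.map (algebraMap R Kb)).roots.pmap (fun a h => ⟨a, h⟩) h3, ?_⟩
    apply Polynomial.map_injective (algebraMap (integralClosure R Kb) Kb) Subtype.val_injective
    rw [Polynomial.map_map, ← IsScalarTower.algebraMap_eq, Polynomial.map_multiset_prod, Multiset.map_map,
      Multiset.map_pmap]
    conv_lhs => rw [h2]
    congr 1
    rw [← Multiset.pmap_eq_map (p := fun a => a ∈ integralClosure R Kb) (H := h3)]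
    refine Multiset.pmap_congr _ fun a _ h4 h5 => ?_
    simp
  fixed a ha := by
    have hc : CharZero K := by
      exact charZero_of_injective_algebraMap (IsFractionRing.injective R K)
    have : IsAlgClosure K Kb := ⟨inferInstance, inferInstance⟩
    have : Normal K Kb := IsAlgClosure.normal K Kb
    have : IsGalois K Kb := ⟨⟩
    obtain ⟨x, hx⟩ := (InfiniteGalois.mem_range_algebraMap_iff_fixed (k := K) (a : Kb)).2 (fun σ => by
      have := ha (AlgEquiv.mapIntegralClosure (σ.restrictScalars R))
      exact congrArg (fun z : integralClosure R Kb => (z : Kb)) this)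
    exact exists_of_K K Kb a x hx
  point D _ _ _ _ _ := by
    have hinj : Function.Injective (algebraMap R D) := FaithfulSMul.algebraMap_injective R D
    obtain ⟨Q, -, hQ, hQ'⟩ := Ideal.exists_ideal_over_prime_of_isIntegral (S := D) (⊥ : Ideal R) ⊥ (by
      rw [← RingHom.ker_eq_comap_bot, (RingHom.injective_iff_ker_eq_bot _).1 hinj])
    have h1 : Module.IsTorsionFree R (D ⧸ Q) := by
      have h2 : Function.Injective (algebraMap R (D ⧸ Q)) := by
        rw [RingHom.injective_iff_ker_eq_bot, RingHom.ker_eq_comap_bot, eq_bot_iff, ← hQ']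
        intro x hx
        rw [Ideal.mem_comap, Ideal.mem_bot] at hx
        rw [Ideal.mem_comap]
        exact Ideal.Quotient.eq_zero_iff_mem.1 hx
      have : FaithfulSMul R (D ⧸ Q) := (faithfulSMul_iff_algebraMap_injective R (D ⧸ Q)).2 h2
      infer_instance
    have h3 : Module.IsTorsionFree R Kb := by
      have : FaithfulSMul R Kb := (faithfulSMul_iff_algebraMap_injective R Kb).2 (inj_Kb R K Kb)
      infer_instance
    have f : (D ⧸ Q) →ₐ[R] Kb := IsAlgClosed.lift
    have g : D →ₐ[R] Kb := f.comp (Ideal.Quotient.mkₐ R Q)
    exact ⟨g.codRestrict _ fun d => (Algebra.IsIntegral.isIntegral (R := R) d).map g⟩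

end

end K144.Tate
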