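import Mathlib.RingTheory.Ideal.Quotient.Operations
import Mathlib.RingTheory.Finiteness.Basic
import Mathlib.RingTheory.Noetherian.Orzech
import Mathlib.RingTheory.FiniteType
import Mathlib.LinearAlgebra.FreeModule.Basic
import Mathlib.LinearAlgebra.Dimension.Free

/-!
# Limits of towers of finite free algebras over the quotients `R / ϖ^i`
-/

set_option autoImplicit false
set_option linter.unusedSectionVars false
universe u v

namespace K144.Tate

/-- a tower of algebras `P i`, free of rank `r` over `R / ϖ^i`, with `P i = P (i+1) / ϖ^i`. -/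
structure Tower (R : Type u) [CommRing R] (ϖ : R) (r : ℕ) where
  P : ℕ → Type u
  [ring : ∀ i, CommRing (P i)]
  [alg : ∀ i, Algebra R (P i)]
  φ : ∀ i, P (i + 1) →ₐ[R] P i
  φ_surj : ∀ i, Function.Surjective (φ i)
  φ_ker : ∀ i (x : P (i + 1)), φ i x = 0 → ∃ y, x = ϖ ^ i • y
  kill : ∀ i (x : P i), ϖ ^ i • x = 0
  basis : ∀ i, ∃ v : Fin r → P i, (∀ y, ∃ a : Fin r → R, y = ∑ l, a l • v l) ∧
    ∀ a : Fin r → R, ∑ l, a l • v l = 0 → ∀ l, ϖ ^ i ∣ a l

attribute [instance] Tower.ring Tower.alg

theorem seq_lift (P : ℕ → Type u) (φ : ∀ i, P (i + 1) → P i) (hφ : ∀ i, Function.Surjective (φ i)) (i : ℕ) (y : P i) :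
    ∃ d : ∀ m, P m, (∀ m, φ m (d (m + 1)) = d m) ∧ d i = y := by
  induction i generalizing P with
  | zero =>
    choose s hs using hφ
    exact ⟨fun m => Nat.rec y (fun m x => s m x) m, fun m => hs m _, rfl⟩
  | succ i ih =>
    obtain ⟨d, hd, hy⟩ := ih (fun m => P (m + 1)) (fun m => φ (m + 1)) (fun m => hφ (m + 1)) y
    refine ⟨fun m => Nat.casesOn m (φ 0 (d 0)) d, ?_, hy⟩
    intro m
    cases m with
    | zero => rfl
    | succ m => exact hd m

theorem exists_algHom_of_surj {R D P T : Type u} [CommRing R] [CommRing D] [CommRing P] [CommRing T] [Algebra R D]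
    [Algebra R P] [Algebra R T] (f : D →ₐ[R] P) (hf : Function.Surjective f) (g : D →ₐ[R] T)
    (h : ∀ d, f d = 0 → g d = 0) : ∃ k : P →ₐ[R] T, ∀ d, k (f d) = g d := by
  have key : ∀ d d', f d = f d' → g d = g d' := by
    intro d d' hd
    rw [← sub_eq_zero, ← map_sub] at hd ⊢
    exact h _ hd
  choose s hs using hf
  refine ⟨{ toFun := fun x => g (s x)
            map_one' := ?_
            map_mul' := ?_
            map_zero' := ?_
            map_add' := ?_
            commutes' := ?_ }, fun d => key _ _ (hs _)⟩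
  · rw [← map_one g]; exact key _ _ (by rw [hs, map_one])
  · intro x y; rw [← map_mul g]; exact key _ _ (by rw [hs, map_mul, hs, hs])
  · rw [← map_zero g]; exact key _ _ (by rw [hs, map_zero])
  · intro x y; rw [← map_add g]; exact key _ _ (by rw [hs, map_add, hs, hs])
  · intro c; rw [← g.commutes]; exact key _ _ (by rw [hs, f.commutes])

namespace Tower

variable {R : Type u} [CommRing R] {ϖ : R} {r : ℕ} (P : Tower R ϖ r)

/-- the limit of the tower. -/
def D : Subalgebra R (∀ i, P.P i) where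
  carrier := {z | ∀ i, P.φ i (z (i + 1)) = z i}
  mul_mem' {x y} hx hy i := by
    have h1 := hx i
    have h2 := hy i
    simp only [Pi.mul_apply, map_mul, h1, h2]
  add_mem' {x y} hx hy i := by
    have h1 := hx i
    have h2 := hy i
    simp only [Pi.add_apply, map_add, h1, h2]
  algebraMap_mem' r i := (P.φ i).commutes r

/-- the projections of the limit. -/
noncomputable def π (i : ℕ) : P.D →ₐ[R] P.P i := (Pi.evalAlgHom R P.P i).comp P.D.val

theorem φ_π (i : ℕ) (d : P.D) : P.φ i (P.π (i + 1) d) = P.π i d := d.2 i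

theorem ext_π {d d' : P.D} (h : ∀ i, P.π i d = P.π i d') : d = d' := Subtype.ext (funext h)

theorem exists_π (z : ∀ i, P.P i) (h : ∀ i, P.φ i (z (i + 1)) = z i) : ∃ d : P.D, ∀ i, P.π i d = z i :=
  ⟨⟨z, h⟩, fun _ => rfl⟩

theorem π_surj (i : ℕ) : Function.Surjective (P.π i) := by
  intro y
  obtain ⟨d, hd, hy⟩ := seq_lift P.P (fun i => P.φ i) P.φ_surj i y
  obtain ⟨d', hd'⟩ := P.exists_π d hd
  exact ⟨d', by rw [hd', hy]⟩

/-- generators. -/
theorem exists_gen : ∃ w : Fin r → P.D, ∀ i (y : P.P i), ∃ a : Fin r → R, y = ∑ l, a l • P.π i (w l) := by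
  obtain ⟨v, hv, -⟩ := P.basis 1
  choose w hw using fun l => P.π_surj 1 (v l)
  refine ⟨w, ?_⟩
  intro i
  induction i with
  | zero =>
    intro y
    refine ⟨0, ?_⟩
    have := P.kill 0 y
    rw [pow_zero, one_smul] at this
    simp [this]
  | succ i ih =>
    rcases Nat.eq_zero_or_pos i with rfl | hi
    · intro y
      obtain ⟨a, ha⟩ := hv y
      refine ⟨a, ?_⟩
      rw [ha]
      exact Finset.sum_congr rfl fun l _ => by rw [hw]
    · have step : ∀ y : P.P (i + 1), ∃ (a : Fin r → R) (y' : P.P (i + 1)),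
          y = ∑ l, a l • P.π (i + 1) (w l) + ϖ ^ i • y' := by
        intro y
        obtain ⟨a, ha⟩ := ih (P.φ i y)
        obtain ⟨y', hy'⟩ := P.φ_ker i (y - ∑ l, a l • P.π (i + 1) (w l)) (by
          rw [map_sub, map_sum, ha, sub_eq_zero]
          refine Finset.sum_congr rfl fun l _ => ?_
          rw [map_smul, P.φ_π])
        exact ⟨a, y', by rw [← hy']; abel⟩
      intro y
      obtain ⟨a, y', h1⟩ := step y
      obtain ⟨a', y'', h2⟩ := step y'
      refine ⟨a + ϖ ^ i • a', ?_⟩
      have h3 : ϖ ^ i • (ϖ ^ i • y'') = 0 := by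
        have h4 := P.kill (i + 1) y''
        rw [smul_smul, ← pow_add]
        obtain ⟨k, rfl⟩ : ∃ k, i = k + 1 := ⟨i - 1, by omega⟩
        have : k + 1 + (k + 1) = k + (k + 1 + 1) := by ring
        rw [this, pow_add, mul_smul, h4, smul_zero]
      rw [h1, h2, smul_add, h3, add_zero, Finset.smul_sum, ← Finset.sum_add_distrib]
      refine Finset.sum_congr rfl fun l _ => ?_
      rw [Pi.add_apply, Pi.smul_apply, add_smul, smul_assoc]

theorem indep (i : ℕ) (w : Fin r → P.P i) (hw : ∀ y, ∃ a : Fin r → R, y = ∑ l, a l • w l) (a : Fin r → R)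
    (ha : ∑ l, a l • w l = 0) (l : Fin r) : ϖ ^ i ∣ a l := by
  obtain ⟨v, hv, hv'⟩ := P.basis i
  let I : Ideal R := Ideal.span {ϖ ^ i}
  -- the linear maps attached to families of elements
  have key : ∀ w : Fin r → P.P i, ∃ F : (Fin r → R ⧸ I) →ₗ[R] P.P i,
      ∀ a : Fin r → R, F (fun l => Ideal.Quotient.mk I (a l)) = ∑ l, a l • w l := by
    intro w
    obtain ⟨G, hG⟩ : ∃ G : (Fin r → R) →ₗ[R] P.P i, ∀ a, G a = ∑ l, a l • w l :=
      ⟨Fintype.linearCombination R w, fun a => Fintype.linearCombination_apply R w a⟩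
    have hs : Function.Surjective (Pi.map (fun _ : Fin r => (Ideal.Quotient.mk I : R → R ⧸ I))) :=
      Function.Surjective.piMap fun _ => Ideal.Quotient.mk_surjective
    have hG0 : ∀ a b : Fin r → R, (fun l => Ideal.Quotient.mk I (a l)) = (fun l => Ideal.Quotient.mk I (b l)) →
        G a = G b := by
      intro a b hab
      rw [← sub_eq_zero, ← map_sub, hG]
      refine Finset.sum_eq_zero fun l _ => ?_
      have h1 := congrFun hab l
      rw [Ideal.Quotient.eq, Ideal.mem_span_singleton] at h1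
      obtain ⟨c, hc⟩ := h1
      rw [Pi.sub_apply, hc, mul_smul, P.kill]
    choose s hs' using hs
    refine ⟨{ toFun := fun x => G (s x)
              map_add' := fun x y => ?_
              map_smul' := fun c x => ?_ }, fun a => ?_⟩
    · rw [← map_add]
      apply hG0
      funext l
      have h1 := congrFun (hs' (x + y)) l
      have h2 := congrFun (hs' x) l
      have h3 := congrFun (hs' y) l
      simp only [Pi.map_apply] at h1 h2 h3
      rw [h1, Pi.add_apply, Pi.add_apply, map_add, h2, h3]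
    · rw [RingHom.id_apply, ← map_smul]
      apply hG0
      funext l
      have h1 := congrFun (hs' (c • x)) l
      have h2 := congrFun (hs' x) l
      simp only [Pi.map_apply] at h1 h2
      rw [h1, Pi.smul_apply, Pi.smul_apply, smul_eq_mul, map_mul, h2, Algebra.smul_def]
      rfl
    · change G (s _) = _
      rw [← hG]
      apply hG0
      funext l
      have h1 := congrFun (hs' (fun l => Ideal.Quotient.mk I (a l))) l
      simpa only [Pi.map_apply] using h1
  obtain ⟨F, hF⟩ := key w
  obtain ⟨V, hV⟩ := key v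
  have hVi : Function.Injective V := by
    rw [injective_iff_map_eq_zero]
    intro x hx
    choose b hb using fun l => Ideal.Quotient.mk_surjective (x l)
    have e : x = fun l => Ideal.Quotient.mk I (b l) := funext fun l => (hb l).symm
    rw [e, hV] at hx
    funext l
    rw [← hb l, Pi.zero_apply, Ideal.Quotient.eq_zero_iff_mem, Ideal.mem_span_singleton]
    exact hv' b hx l
  have hVs : Function.Surjective V := by
    intro y
    obtain ⟨b, hb⟩ := hv y
    exact ⟨_, (hV b).trans hb.symm⟩
  have hFs : Function.Surjective F := by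
    intro y
    obtain ⟨b, hb⟩ := hw y
    exact ⟨_, (hF b).trans hb.symm⟩
  let e := LinearEquiv.ofBijective V ⟨hVi, hVs⟩
  have h1 : Function.Surjective (e.symm.toLinearMap ∘ₗ F) := e.symm.surjective.comp hFs
  have h2 := OrzechProperty.injective_of_surjective_endomorphism _ h1
  have h3 : (fun l => Ideal.Quotient.mk I (a l)) = 0 := by
    apply h2
    rw [LinearMap.comp_apply, hF, ha, map_zero, map_zero]
  have h4 := congrFun h3 l
  rwa [Pi.zero_apply, Ideal.Quotient.eq_zero_iff_mem, Ideal.mem_span_singleton] at h4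

/-- the limit is free of rank `r`, with `D / ϖ^i = P i`. -/
theorem main (hlim : ∀ f : ℕ → R, (∀ i, ϖ ^ i ∣ f (i + 1) - f i) → ∃ L, ∀ i, ϖ ^ i ∣ L - f i)
    (hh : ∀ x : R, (∀ i, ϖ ^ i ∣ x) → x = 0) :
    Nonempty ((Fin r → R) ≃ₗ[R] P.D) ∧ ∀ i (d : P.D), P.π i d = 0 → ∃ d', d = ϖ ^ i • d' := by
  obtain ⟨w, hw⟩ := P.exists_gen
  obtain ⟨G, hG⟩ : ∃ G : (Fin r → R) →ₗ[R] P.D, ∀ a, G a = ∑ l, a l • w l :=
    ⟨Fintype.linearCombination R w, fun a => Fintype.linearCombination_apply R w a⟩
  have hπ : ∀ i a, P.π i (G a) = ∑ l, a l • P.π i (w l) := by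
    intro i a
    rw [hG, map_sum]
    exact Finset.sum_congr rfl fun l _ => map_smul _ _ _
  have hi : ∀ i a, P.π i (G a) = 0 → ∀ l, ϖ ^ i ∣ a l := by
    intro i a ha l
    rw [hπ] at ha
    exact P.indep i _ (hw i) a ha l
  have hinj : Function.Injective G := by
    rw [injective_iff_map_eq_zero]
    intro a ha
    funext l
    exact hh _ fun i => hi i a (by rw [ha, map_zero]) l
  have hsurj : Function.Surjective G := by
    intro d
    choose a ha using fun i => hw i (P.π i d)
    have h1 : ∀ l i, ϖ ^ i ∣ a (i + 1) l - a i l := by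
      intro l i
      refine P.indep i _ (hw i) (a (i + 1) - a i) ?_ l
      have h2 : ∑ l, (a (i + 1) - a i) l • P.π i (w l) =
          ∑ l, a (i + 1) l • P.π i (w l) - ∑ l, a i l • P.π i (w l) := by
        rw [← Finset.sum_sub_distrib]
        exact Finset.sum_congr rfl fun l _ => by rw [Pi.sub_apply, sub_smul]
      rw [h2, ← ha i, sub_eq_zero, ← P.φ_π, ha (i + 1), map_sum]
      refine Finset.sum_congr rfl fun l _ => ?_
      rw [map_smul, P.φ_π]
    choose L hL using fun l => hlim (fun i => a i l) (h1 l)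
    refine ⟨L, P.ext_π fun i => ?_⟩
    rw [hπ, ha i, ← sub_eq_zero, ← Finset.sum_sub_distrib]
    refine Finset.sum_eq_zero fun l _ => ?_
    obtain ⟨c, hc⟩ := hL l i
    rw [← sub_smul, hc, mul_smul, P.kill]
  let e := LinearEquiv.ofBijective G ⟨hinj, hsurj⟩
  refine ⟨⟨e⟩, ?_⟩
  intro i d hd
  obtain ⟨a, rfl⟩ := hsurj d
  choose c hc using hi i a hd
  refine ⟨G c, ?_⟩
  rw [← map_smul]
  congr 1
  funext l
  rw [Pi.smul_apply, smul_eq_mul, hc]

end Tower

end K144.Tate
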