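import Groth.Agent.SGA7.K144.Fam
import Groth.Agent.SGA7.K144.Good
import Groth.Agent.SGA7.K144.Tower
import Mathlib.LinearAlgebra.Matrix.ToLinearEquiv
import Mathlib.RingTheory.RootsOfUnity.PrimitiveRoots

/-!
# Families of points with trivial characters: uniqueness of `p`-division
-/

set_option autoImplicit false
set_option linter.unusedSectionVars false
universe u v

open TensorProduct CartDual K564.Tate

namespace K144.Tate

theorem char_sep {R H L : Type*} [CommRing R] [CommRing H] [Algebra R H] [CommRing L] [IsDomain L] [Algebra R L]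
    {ι : Type*} [Fintype ι] (β : ι → H) (hβ : ∀ x : H, ∃ c : ι → R, x = ∑ i, c i • β i)
    (w : ι → (H →ₐ[R] L)) (hw : Function.Injective w) (v : ι → L) (hv : ∀ k, ∑ i, v i * w k (β i) = 0) : v = 0 := by
  classical
  by_contra hne
  obtain ⟨M, hM⟩ : ∃ M : Matrix ι ι L, ∀ k i, M k i = w k (β i) := ⟨fun k i => w k (β i), fun _ _ => rfl⟩
  have h1 : M.mulVec v = 0 := by
    funext k
    rw [Pi.zero_apply, ← hv k, Matrix.mulVec, dotProduct]
    exact Finset.sum_congr rfl fun i _ => by rw [hM, mul_comm]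
  have h2 : M.det = 0 := Matrix.exists_mulVec_eq_zero_iff.1 ⟨v, hne, h1⟩
  obtain ⟨u, hu, h3⟩ := Matrix.exists_vecMul_eq_zero_iff.2 h2
  apply hu
  have h4 : ∀ i, ∑ k, u k * w k (β i) = 0 := by
    intro i
    have := congrFun h3 i
    rw [Pi.zero_apply, Matrix.vecMul, dotProduct] at this
    rw [← this]
    exact Finset.sum_congr rfl fun k _ => by rw [hM]
  have h5 := (linearIndependent_monoidHom H L).comp (fun k => ((w k : H →ₐ[R] L) : H →* L)) (fun a b hab => by
    apply hw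
    apply AlgHom.ext
    intro x
    exact DFunLike.congr_fun hab x)
  rw [Fintype.linearIndependent_iff] at h5
  funext k
  refine h5 u ?_ k
  funext x
  obtain ⟨c, rfl⟩ := hβ x
  rw [Finset.sum_apply, Pi.zero_apply]
  have h6 : ∀ k, (u k • fun y : H => (w k) y) (∑ i, c i • β i) = ∑ i, algebraMap R L (c i) * (u k * w k (β i)) := by
    intro k
    rw [Pi.smul_apply, smul_eq_mul, map_sum, Finset.mul_sum]
    refine Finset.sum_congr rfl fun i _ => ?_
    rw [map_smul, Algebra.smul_def]; ring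
  calc _ = ∑ k, ∑ i, algebraMap R L (c i) * (u k * w k (β i)) := Finset.sum_congr rfl fun k _ => h6 k
    _ = ∑ i, ∑ k, algebraMap R L (c i) * (u k * w k (β i)) := Finset.sum_comm
    _ = 0 := Finset.sum_eq_zero fun i _ => by rw [← Finset.mul_sum, h4, mul_zero]

section Bas

variable {R : Type u} [CommRing R] {p h : ℕ}

/-- dual bases of the Tate modules. -/
structure Bas (Φ : Sys R p h) (O : Type u) [CommRing O] [Algebra R O] where
  z : ℕ → O
  e : Fin h → Φ.T O
  e' : Fin h → Φ.Y O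
  hz : ∀ n, IsPrimitiveRoot (z n) (p ^ n)
  pair : ∀ n i j, pr (Φ.B n) ((e i).1 n).ofConv.toLinearMap ((e' j).1 n).ofConv.toLinearMap = if i = j then z n else 1
  gen : ∀ n (y : WithConv (D R (Φ.B n) →ₐ[R] O)), ∃ a : Fin h → ℕ, y = ∏ j, (e' j).1 n ^ a j
  tor : ∀ n (y : WithConv (D R (Φ.B n) →ₐ[R] O)), y ^ (p ^ n) = 1

variable {Φ : Sys R p h} {O : Type u} [CommRing O] [Algebra R O]

theorem Y_res1 (y : Φ.Y O) (m : ℕ) : pc (transpose R (res1 Φ m)) O (y.1 (m + 1)) = y.1 1 := by
  induction m with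
  | zero =>
    apply WithConv.ext
    apply AlgHom.ext
    intro u
    rfl
  | succ m ih =>
    rw [← ih, ← y.2 (m + 1)]
    apply WithConv.ext
    apply AlgHom.ext
    intro u
    rfl

/-- every character of the first layer extends. -/
theorem Bas.exists_ext (b : Bas Φ O) (n : ℕ) (w : WithConv (D R (Φ.B n) →ₐ[R] O)) : ∃ y : Φ.Y O, y.1 n = w := by
  obtain ⟨a, rfl⟩ := b.gen n w
  refine ⟨∏ j, b.e' j ^ a j, ?_⟩
  have h1 : ∀ (s : Finset (Fin h)), (∏ j ∈ s, b.e' j ^ a j : Φ.Y O).1 n = ∏ j ∈ s, (b.e' j).1 n ^ a j := by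
    intro s
    classical
    induction s using Finset.induction_on with
    | empty => rfl
    | insert j s hj ih =>
      rw [Finset.prod_insert hj, Finset.prod_insert hj, ← ih]
      rfl
  exact h1 _

theorem prHom_prod (n : ℕ) (x : WithConv (Φ.B n →ₐ[R] O)) (w : Fin h → WithConv (D R (Φ.B n) →ₐ[R] O))
    (a : Fin h → ℕ) : pr (Φ.B n) x.ofConv.toLinearMap (∏ j, w j ^ a j).ofConv.toLinearMap =
      ∏ j, (pr (Φ.B n) x.ofConv.toLinearMap (w j).ofConv.toLinearMap) ^ a j := by
  have h1 := map_prod (prHom x) (fun j => w j ^ a j) Finset.univ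
  rw [prHom_apply] at h1
  rw [h1]
  refine Finset.prod_congr rfl fun j _ => ?_
  rw [map_pow, prHom_apply]

theorem prHom'_prod (n : ℕ) (w : WithConv (D R (Φ.B n) →ₐ[R] O)) (x : Fin h → WithConv (Φ.B n →ₐ[R] O))
    (a : Fin h → ℕ) : pr (Φ.B n) (∏ j, x j ^ a j).ofConv.toLinearMap w.ofConv.toLinearMap =
      ∏ j, (pr (Φ.B n) (x j).ofConv.toLinearMap w.ofConv.toLinearMap) ^ a j := by
  have h1 := map_prod (prHom' w) (fun j => x j ^ a j) Finset.univ
  have h2 : ∀ y, prHom' w y = pr (Φ.B n) y.ofConv.toLinearMap w.ofConv.toLinearMap := fun y => rfl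
  rw [h2] at h1
  rw [h1]
  refine Finset.prod_congr rfl fun j _ => ?_
  rw [map_pow, h2]

theorem Bas.pair_e (b : Bas Φ O) (n : ℕ) (i : Fin h) (a : Fin h → ℕ) :
    pr (Φ.B n) ((b.e i).1 n).ofConv.toLinearMap (∏ j, (b.e' j).1 n ^ a j).ofConv.toLinearMap = b.z n ^ a i := by
  rw [prHom_prod, Finset.prod_eq_single i]
  · rw [b.pair, if_pos rfl]
  · intro j _ hj
    rw [b.pair, if_neg hj.symm, one_pow]
  · intro hi; exact (hi (Finset.mem_univ i)).elim

theorem Bas.pair_e' (b : Bas Φ O) (n : ℕ) (j : Fin h) (a : Fin h → ℕ) :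
    pr (Φ.B n) (∏ i, (b.e i).1 n ^ a i).ofConv.toLinearMap ((b.e' j).1 n).ofConv.toLinearMap = b.z n ^ a j := by
  rw [prHom'_prod, Finset.prod_eq_single j]
  · rw [b.pair, if_pos rfl]
  · intro i _ hi
    rw [b.pair, if_neg hi, one_pow]
  · intro hi; exact (hi (Finset.mem_univ j)).elim

theorem Bas.inj (b : Bas Φ O) [Fact p.Prime] :
    Function.Injective fun a : Fin h → Fin p => ∏ j, (b.e' j).1 1 ^ (a j : ℕ) := by
  intro a a' haa
  funext i
  have h1 := b.pair_e 1 i (fun j => (a j : ℕ))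
  have h2 := b.pair_e 1 i (fun j => (a' j : ℕ))
  have haa' : (∏ j, (b.e' j).1 1 ^ (a j : ℕ)) = ∏ j, (b.e' j).1 1 ^ (a' j : ℕ) := haa
  rw [haa', h2] at h1
  have h3 := b.hz 1
  rw [pow_one] at h3
  exact Fin.ext (h3.pow_inj (a' i).2 (a i).2 h1).symm

end Bas

section Uniq

variable {R : Type u} [CommRing R] [IsDomain R] {p h : ℕ}
  {O : Type u} [CommRing O] [IsDomain O] [ValuationRing O] [Algebra R O]

theorem toLm_injective (hG : Good R O) (hh : ∀ x : R, (∀ i, (p : R) ^ i ∣ x) → x = 0) :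
    Function.Injective (toLm R O p) := by
  rw [injective_iff_map_eq_zero]
  intro a ha
  by_contra hne
  obtain ⟨r, hr, hdvd⟩ := hG.nz a hne
  apply hr
  apply hh
  intro i
  apply hG.dvd
  refine dvd_trans ?_ hdvd
  have h1 : (toLm R O p a).1 i = 0 := by rw [ha]; rfl
  rw [toLm_apply, Ideal.Quotient.eq_zero_iff_mem, Ideal.mem_span_singleton] at h1
  rw [map_pow, map_natCast]
  exact h1

variable {Φ : Sys R p h}

/-- a point of the first layer with values in the limit all of whose characters are trivial is trivial. -/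
theorem first_eq_one (hG : Good R O) (hh : ∀ x : R, (∀ i, (p : R) ^ i ∣ x) → x = 0) [Fact p.Prime]
    (hpu : ¬ IsUnit (p : O)) (b : Bas Φ O) (x : Φ.B 1 →ₐ[R] Lm R O p)
    (hx : ∀ w : WithConv (D R (Φ.B 1) →ₐ[R] O), pr (Φ.B 1) x.toLinearMap ((toLm R O p).comp w.ofConv).toLinearMap = 1)
    (a : Φ.B 1) : x a = algebraMap R _ (Coalgebra.counit (R := R) a) := by
  have hdom := Lm.isDomain (R := R) (O := O) hpu
  have hinj := toLm_injective hG hh
  obtain ⟨β, hβ⟩ : ∃ β, β = Module.Free.chooseBasis R (Φ.B 1) := ⟨_, rfl⟩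
  have hcard : Fintype.card (Module.Free.ChooseBasisIndex R (Φ.B 1)) = Fintype.card (Fin h → Fin p) := by
    rw [← Module.finrank_eq_card_basis β, Φ.rank, one_mul]
    simp
  let σ := Fintype.equivOfCardEq hcard
  obtain ⟨w, hw⟩ : ∃ w : Module.Free.ChooseBasisIndex R (Φ.B 1) → (D R (Φ.B 1) →ₐ[R] Lm R O p),
      ∀ k, w k = (toLm R O p).comp (∏ j, (b.e' j).1 1 ^ (σ k j : ℕ)).ofConv := ⟨_, fun _ => rfl⟩
  have hwi : Function.Injective w := by
    intro k k' hkk
    apply σ.injective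
    apply b.inj
    apply WithConv.ext
    apply AlgHom.ext
    intro y
    apply hinj
    rw [hw, hw] at hkk
    exact DFunLike.congr_fun hkk y
  have hzero := char_sep (R := R) (L := Lm R O p)
    (fun i => (WithConv.toConv (β.coord i) : D R (Φ.B 1))) (fun y => ⟨_, basis_dual β y⟩) w hwi
    (fun i => x (β i) - algebraMap R _ (Coalgebra.counit (R := R) (β i))) (fun k => by
      have h1 := hx (∏ j, (b.e' j).1 1 ^ (σ k j : ℕ))
      rw [← hw, pr_basis β] at h1
      have h2 := pr_one_left (R := R) (B := Φ.B 1) (w k)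
      rw [pr_basis β] at h2
      have h3 : ∑ i, (x (β i) - algebraMap R (Lm R O p) (Coalgebra.counit (R := R) (β i))) *
          w k (WithConv.toConv (β.coord i)) =
          ∑ i, x (β i) * w k (WithConv.toConv (β.coord i)) -
          ∑ i, algebraMap R (Lm R O p) (Coalgebra.counit (R := R) (β i)) * w k (WithConv.toConv (β.coord i)) := by
        rw [← Finset.sum_sub_distrib]
        exact Finset.sum_congr rfl fun i _ => sub_mul _ _ _
      rw [h3, sub_eq_zero]
      exact h1.trans h2.symm)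
  have h4 : x.toLinearMap = (Algebra.linearMap R (Lm R O p)) ∘ₗ (Coalgebra.counit (R := R) (A := Φ.B 1)) := by
    apply β.ext
    intro i
    exact sub_eq_zero.1 (congrFun hzero i)
  exact LinearMap.congr_fun h4 a

/-- uniqueness of division by `p` among families with trivial characters. -/
theorem eq_one_of_dn_eq_one [IsDiscreteValuationRing R] (hG : Good R O)
    (hh : ∀ x : R, (∀ i, (p : R) ^ i ∣ x) → x = 0) [Fact p.Prime]
    (hpu : ¬ IsUnit (p : O)) (b : Bas Φ O) (q : ℕ) (x : Fam Φ O) (hc : Compat (q + 1) x) (ht : Triv (q + 1) x)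
    (h1 : ∀ n i, n = q + i → dn x n i = 1) : ∀ n i, n = q + i → x (n + 1) i = 1 := by
  have hk : ∀ i, ∃ k : Φ.B 1 →ₐ[R] Q O p i, ∀ a, k (res1 Φ (q + i) a) = (x (q + i + 1) i).ofConv a := by
    intro i
    refine exists_algHom_of_surj (res1 Φ (q + i) : Φ.B (q + i + 1) →ₐ[R] Φ.B 1) (res1_surj Φ (q + i)) _ ?_
    intro a ha
    have h2 : RingHom.ker (res1 Φ (q + i)) ≤ RingHom.ker (x (q + i + 1) i).ofConv := by
      rw [ker_res1, Ideal.map_le_iff_le_comap]
      intro c hc
      rw [Ideal.mem_comap, RingHom.mem_ker]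
      have h3 := congrArg (fun f : WithConv (Φ.B (q + i) →ₐ[R] Q O p i) => f.ofConv c) (h1 (q + i) i rfl)
      have h4 : (x (q + i + 1) i).ofConv (Φ.inf (q + i) c) = algebraMap R (Q O p i) (Coalgebra.counit (R := R) c) := h3
      have h5 : Coalgebra.counit (R := R) c = 0 := hc
      rw [h4, h5, map_zero]
    exact h2 ha
  choose k hk using hk
  have hcomp : ∀ i a, tr R O p i (k (i + 1) a) = k i a := by
    intro i a
    obtain ⟨c, rfl⟩ := res1_surj Φ (q + i + 1) a
    have h2 := hk (i + 1) c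
    have h3 : k (i + 1) (res1 Φ (q + i + 1) c) = (x (q + i + 1 + 1) (i + 1)).ofConv c := h2
    rw [h3, res1_succ, hk]
    exact congrArg (fun f : WithConv (Φ.B (q + i + 1 + 1) →ₐ[R] Q O p i) => f.ofConv c) (hc (q + i + 1) i (by omega))
  obtain ⟨y, hy⟩ : ∃ y : Φ.B 1 →ₐ[R] Lm R O p, ∀ a i, (y a).1 i = k i a :=
    ⟨AlgHom.codRestrict (AlgHom.pi fun i => k i) (Lm R O p) fun a i => hcomp i a, fun _ _ => rfl⟩
  have hone := first_eq_one hG hh hpu b y (by
    intro w
    apply Lm.ext'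
    intro i
    obtain ⟨ev, hev⟩ : ∃ ev : Lm R O p →ₐ[R] Q O p i, ∀ d, ev d = d.1 i :=
      ⟨(Pi.evalAlgHom R (Q O p) i).comp (Lm R O p).val, fun _ => rfl⟩
    rw [← hev, ← hev, ← pr_map ev, map_one]
    have e1 : ev.toLinearMap ∘ₗ y.toLinearMap = (WithConv.toConv (k i)).ofConv.toLinearMap := by
      apply LinearMap.ext
      intro a
      change ev (y a) = k i a
      rw [hev, hy]
    have e2 : ev.toLinearMap ∘ₗ ((toLm R O p).comp w.ofConv).toLinearMap =
        (qc (D R (Φ.B 1)) (Qmk R O p i) w).ofConv.toLinearMap := by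
      apply LinearMap.ext
      intro a
      change ev (toLm R O p (w.ofConv a)) = Qmk R O p i (w.ofConv a)
      rw [hev, toLm_apply, Qmk_apply]
    rw [e1, e2]
    obtain ⟨Y, rfl⟩ := b.exists_ext 1 w
    have e3 : qc (D R (Φ.B 1)) (Qmk R O p i) (Y.1 1) =
        pc (transpose R (res1 Φ (q + i))) (Q O p i) (qc (D R (Φ.B (q + i + 1))) (Qmk R O p i) (Y.1 (q + i + 1))) := by
      rw [← Y_res1 Y (q + i)]
      rfl
    rw [e3, ← pr_pc]
    have e4 : pc (res1 Φ (q + i)) (Q O p i) (WithConv.toConv (k i)) = x (q + i + 1) i := by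
      apply WithConv.ext
      apply AlgHom.ext
      intro a
      exact hk i a
    rw [e4]
    exact ht (q + i + 1) i (by omega) _)
  intro n i hn
  subst hn
  apply WithConv.ext
  apply AlgHom.ext
  intro a
  rw [← hk, ← hy, hone, counit_res1]
  rfl

end Uniq

end K144.Tate
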