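import Groth.Agent.SGA7.K144.Fib
import Groth.Agent.SGA7.K144.Char

/-!
# Division by `p` of families of points with trivial characters
-/

set_option autoImplicit false
set_option linter.unusedSectionVars false
universe u v

open TensorProduct CartDual K564.Tate

namespace K144.Tate

section

variable {R : Type u} [CommRing R] [IsDomain R] [IsDiscreteValuationRing R] {p h : ℕ} [Fact p.Prime]
  {O : Type u} [CommRing O] [IsDomain O] [ValuationRing O] [Algebra R O] {Φ : Sys R p h}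

/-- the values of the characters of a family. -/
theorem exists_theta (x : Fam Φ O) (q : ℕ) (hc : Compat (q + 1) x) (y : Φ.Y O) :
    ∃ θ : Lm R O p, ∀ i, θ.1 i =
      pr (Φ.B (q + i + 1)) (x (q + i + 1) i).ofConv.toLinearMap
        (qc _ (Qmk R O p i) (y.1 (q + i + 1))).ofConv.toLinearMap := by
  refine ⟨⟨fun i => pr (Φ.B (q + i + 1)) (x (q + i + 1) i).ofConv.toLinearMap
        (qc _ (Qmk R O p i) (y.1 (q + i + 1))).ofConv.toLinearMap, ?_⟩, fun i => rfl⟩
  intro i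
  change tr R O p i (pr (Φ.B (q + i + 1 + 1)) (x (q + i + 1 + 1) (i + 1)).ofConv.toLinearMap
        (qc _ (Qmk R O p (i + 1)) (y.1 (q + i + 1 + 1))).ofConv.toLinearMap) = _
  rw [← pr_map (tr R O p i)]
  have h1 := hc (q + i + 1) i (by omega)
  have e1 : (tr R O p i).toLinearMap ∘ₗ (x (q + i + 1 + 1) (i + 1)).ofConv.toLinearMap =
      (pc (Φ.res (q + i + 1)) (Q O p i) (x (q + i + 1) i)).ofConv.toLinearMap := by
    rw [← h1]; rfl
  have e2 : (tr R O p i).toLinearMap ∘ₗ (qc _ (Qmk R O p (i + 1)) (y.1 (q + i + 1 + 1))).ofConv.toLinearMap =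
      (qc _ (Qmk R O p i) (y.1 (q + i + 1 + 1))).ofConv.toLinearMap := rfl
  rw [e1, e2, pr_pc]
  have e3 : pc (transpose R (Φ.res (q + i + 1))) (Q O p i) (qc _ (Qmk R O p i) (y.1 (q + i + 1 + 1))) =
      qc _ (Qmk R O p i) (y.1 (q + i + 1)) := by
    rw [← y.2 (q + i + 1)]
    rfl
  rw [e3]

theorem theta_pow (x : Fam Φ O) (g : Fam Φ O) (q : ℕ) (hx : ∀ n i, n = q + i → dn x n i = g n i) (hg : Triv q g)
    (y : Φ.Y O) (i : ℕ) :
    (pr (Φ.B (q + i + 1)) (x (q + i + 1) i).ofConv.toLinearMap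
        (qc _ (Qmk R O p i) (y.1 (q + i + 1))).ofConv.toLinearMap) ^ p = 1 := by
  have h1 := (map_pow (prHom' (qc _ (Qmk R O p i) (y.1 (q + i + 1)))) (x (q + i + 1) i) p).symm
  refine h1.trans ?_
  rw [pow_p]
  change pr _ (pc (Φ.res (q + i)) _ (dn x (q + i) i)).ofConv.toLinearMap _ = 1
  rw [hx (q + i) i rfl, pr_pc]
  have e3 : pc (transpose R (Φ.res (q + i))) (Q O p i) (qc _ (Qmk R O p i) (y.1 (q + i + 1))) =
      qc _ (Qmk R O p i) (y.1 (q + i)) := by
    rw [← y.2 (q + i)]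
    rfl
  rw [e3]
  exact hg (q + i) i rfl _

/-- the family attached to a point of the first layer. -/
noncomputable def tau (t : WithConv (Φ.B 1 →ₐ[R] O)) : Fam Φ O := fun n i =>
  match n with
  | 0 => 1
  | m + 1 => qc _ (Qmk R O p i) (pc (res1 Φ m) O t)

theorem tau_compat (t : WithConv (Φ.B 1 →ₐ[R] O)) (q : ℕ) : Compat (q + 1) (tau t) := by
  intro n i hn
  obtain ⟨m, rfl⟩ : ∃ m, n = m + 1 := ⟨n - 1, by omega⟩
  rfl

theorem dn_tau (t : WithConv (Φ.B 1 →ₐ[R] O)) (n i : ℕ) : dn (tau t) n i = 1 := by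
  apply WithConv.ext
  apply AlgHom.ext
  intro b
  change Qmk R O p i (t.ofConv (res1 Φ n (Φ.inf n b))) = algebraMap R (Q O p i) (Coalgebra.counit (R := R) b)
  rw [res1_inf, AlgHom.commutes, AlgHom.commutes]

theorem pr_tau (t : WithConv (Φ.B 1 →ₐ[R] O)) (y : Φ.Y O) (m i : ℕ) :
    pr (Φ.B (m + 1)) (tau t (m + 1) i).ofConv.toLinearMap (qc _ (Qmk R O p i) (y.1 (m + 1))).ofConv.toLinearMap =
      Qmk R O p i (pr (Φ.B 1) t.ofConv.toLinearMap (y.1 1).ofConv.toLinearMap) := by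
  rw [← Y_res1 y m, ← pr_pc, ← pr_map (Qmk R O p i)]
  rfl

theorem monic_root (hG : Good R O) (hpu : ¬ IsUnit (p : O)) (hinj : Function.Injective (toLm R O p)) (ζ : O)
    (hζ : IsPrimitiveRoot ζ p) (θ : Lm R O p) (hθ : θ ^ p = 1) : ∃ c : ℕ, θ = toLm R O p (ζ ^ c) := by
  have hp : p.Prime := Fact.out
  obtain ⟨s, hs⟩ := hG.split (Polynomial.X ^ p - Polynomial.C 1) (Polynomial.monic_X_pow_sub_C 1 hp.ne_zero)
  obtain ⟨a, -, rfl⟩ := Lm.exists_of_root hpu _ s hs θ (by simp [hθ])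
  have h1 : a ^ p = 1 := hinj (by rw [map_pow, hθ, map_one])
  obtain ⟨c, -, hc⟩ := hζ.eq_pow_of_pow_eq_one h1
  exact ⟨c, by rw [hc]⟩

/-- division by `p` over `O`. -/
theorem exists_div_O (hG : Good R O)
    (hlim : ∀ f : ℕ → R, (∀ i, (p : R) ^ i ∣ f (i + 1) - f i) → ∃ L, ∀ i, (p : R) ^ i ∣ L - f i)
    (hh : ∀ x : R, (∀ i, (p : R) ^ i ∣ x) → x = 0) (hpu : ¬ IsUnit (p : O)) (b : Bas Φ O) (q : ℕ)
    (g : Fam Φ R) (hc : Compat q g) (ht : Triv q (bc O g)) :
    ∃ x : Fam Φ O, Compat (q + 1) x ∧ Triv (q + 1) x ∧ ∀ n i, n = q + i → dn x n i = bc O g n i := by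
  have hinj := toLm_injective hG hh
  obtain ⟨D', _, _, ⟨e⟩, hD, -⟩ := exists_fibre Φ hlim hh q g hc
  have hfin : Module.Finite R D' := Module.Finite.equiv e
  have hfree : Module.Free R D' := Module.Free.of_equiv e
  have hnt : Nontrivial D' := by
    have : Nonempty (Fin (p ^ h)) := ⟨⟨0, pow_pos (Fact.out : p.Prime).pos _⟩⟩
    exact e.symm.toEquiv.nontrivial
  obtain ⟨y⟩ := hG.point D'
  obtain ⟨x', hx', hx''⟩ := hD O y
  choose θ hθ using fun j => exists_theta x' q hx' (b.e' j)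
  have hθp : ∀ j, θ j ^ p = 1 := by
    intro j
    apply Lm.ext'
    intro i
    change (θ j).1 i ^ p = 1
    rw [hθ]
    exact theta_pow x' (bc O g) q hx'' ht (b.e' j) i
  have hz := b.hz 1
  rw [pow_one] at hz
  choose c hc' using fun j => monic_root hG hpu hinj (b.z 1) hz (θ j) (hθp j)
  obtain ⟨t, ht'⟩ : ∃ t, t = ∏ i, (b.e i).1 1 ^ c i := ⟨_, rfl⟩
  refine ⟨x' * (tau t)⁻¹, hx'.mul (tau_compat t q).inv, ?_, ?_⟩
  · intro n i hn w
    obtain ⟨m, rfl⟩ : ∃ m, n = m + 1 := ⟨n - 1, by omega⟩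
    have hm : m = q + i := by omega
    subst hm
    have key : ∀ j, pr (Φ.B (q + i + 1)) ((x' * (tau t)⁻¹) (q + i + 1) i).ofConv.toLinearMap
        (qc _ (Qmk R O p i) ((b.e' j).1 (q + i + 1))).ofConv.toLinearMap = 1 := by
      intro j
      have e1 : pr (Φ.B (q + i + 1)) (x' (q + i + 1) i).ofConv.toLinearMap
          (qc _ (Qmk R O p i) ((b.e' j).1 (q + i + 1))).ofConv.toLinearMap =
          pr (Φ.B (q + i + 1)) (tau t (q + i + 1) i).ofConv.toLinearMap
          (qc _ (Qmk R O p i) ((b.e' j).1 (q + i + 1))).ofConv.toLinearMap := by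
        rw [pr_tau, ht', b.pair_e', ← hθ, hc', toLm_apply, Qmk_apply]
      rw [Pi.mul_apply, Pi.mul_apply, pr_mul_left, e1, ← pr_mul_left, Pi.inv_apply, Pi.inv_apply, mul_inv_cancel]
      exact pr_one_left _
    obtain ⟨a, rfl⟩ := b.gen _ w
    rw [map_prod]
    have e2 : ∀ j, qc (D R (Φ.B (q + i + 1))) (Qmk R O p i) ((b.e' j).1 (q + i + 1) ^ a j) =
        (qc (D R (Φ.B (q + i + 1))) (Qmk R O p i) ((b.e' j).1 (q + i + 1))) ^ a j := fun j => map_pow _ _ _
    simp only [e2]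
    have e3 := map_prod (prHom ((x' * (tau t)⁻¹) (q + i + 1) i)) (fun j =>
      (qc (D R (Φ.B (q + i + 1))) (Qmk R O p i) ((b.e' j).1 (q + i + 1))) ^ a j) Finset.univ
    rw [prHom_apply] at e3
    rw [e3]
    refine Finset.prod_eq_one fun j _ => ?_
    rw [map_pow, prHom_apply, key, one_pow]
  · intro n i hn
    rw [dn_mul, dn_inv, Pi.mul_apply, Pi.mul_apply, Pi.inv_apply, Pi.inv_apply, dn_tau, inv_one, mul_one]
    exact hx'' n i hn

/-- reduction of an automorphism. -/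
noncomputable def sg (σ : O ≃ₐ[R] O) (i : ℕ) : Q O p i →ₐ[R] Q O p i :=
  Ideal.quotientMapₐ _ (σ : O →ₐ[R] O) (by
    rw [Ideal.span_singleton_le_iff_mem, Ideal.mem_comap, map_pow, map_natCast]
    exact Ideal.mem_span_singleton_self _)

theorem sg_mk (σ : O ≃ₐ[R] O) (i : ℕ) (a : O) : sg σ i (Qmk R O p i a) = Qmk R O p i (σ a) := rfl

theorem tr_sg (σ : O ≃ₐ[R] O) (i : ℕ) (a : Q O p (i + 1)) : tr R O p i (sg σ (i + 1) a) = sg σ i (tr R O p i a) := by
  obtain ⟨a, rfl⟩ := Ideal.Quotient.mk_surjective a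
  rfl

theorem sg_Qmap (σ : O ≃ₐ[R] O) (i : ℕ) (a : Q R p i) : sg σ i (Qmap R O p i a) = Qmap R O p i a := by
  obtain ⟨a, rfl⟩ := Ideal.Quotient.mk_surjective a
  rw [Qmap_mk]
  exact congrArg (Ideal.Quotient.mk _) (σ.commutes a)

/-- Galois invariance. -/
theorem fixed_of_triv (hG : Good R O) (hh : ∀ x : R, (∀ i, (p : R) ^ i ∣ x) → x = 0) (hpu : ¬ IsUnit (p : O))
    (b : Bas Φ O) (q : ℕ) (g : Fam Φ R) (x : Fam Φ O) (hx : Compat (q + 1) x) (ht : Triv (q + 1) x)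
    (hg : ∀ n i, n = q + i → dn x n i = bc O g n i) (σ : O ≃ₐ[R] O) (n i : ℕ) (hn : n = q + i) (a : Φ.B (n + 1)) :
    sg σ i ((x (n + 1) i).ofConv a) = (x (n + 1) i).ofConv a := by
  obtain ⟨y, hy⟩ : ∃ y : Fam Φ O, ∀ n i, y n i = qc _ (sg σ i) (x n i) := ⟨fun n i => qc _ (sg σ i) (x n i), fun _ _ => rfl⟩
  have hyc : Compat (q + 1) y := by
    intro n i hn
    have h1 := hx n i hn
    rw [hy, hy]
    apply WithConv.ext
    apply AlgHom.ext
    intro c
    change tr R O p i (sg σ (i + 1) ((x (n + 1) (i + 1)).ofConv c)) = sg σ i ((x n i).ofConv (Φ.res n c))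
    rw [tr_sg]
    congr 1
    exact congrArg (fun f : WithConv (Φ.B (n + 1) →ₐ[R] Q O p i) => f.ofConv c) h1
  have hyt : Triv (q + 1) y := by
    intro n i hn w
    rw [hy]
    have h1 := ht n i hn (qc _ (σ.symm : O →ₐ[R] O) w)
    have h2 := congrArg (sg (p := p) σ i) h1
    rw [map_one, ← pr_map (sg (p := p) σ i)] at h2
    rw [← h2]
    congr 1
    apply LinearMap.ext
    intro c
    change Qmk R O p i (w.ofConv c) = sg σ i (Qmk R O p i (σ.symm (w.ofConv c)))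
    rw [sg_mk, AlgEquiv.apply_symm_apply]
  have hyd : ∀ n i, n = q + i → dn y n i = bc O g n i := by
    intro n i hn
    rw [← hg n i hn]
    apply WithConv.ext
    apply AlgHom.ext
    intro c
    have h3 := congrArg (fun f : WithConv (Φ.B n →ₐ[R] Q O p i) => f.ofConv c) (hg n i hn)
    have h4 : (x (n + 1) i).ofConv (Φ.inf n c) = Qmap R O p i ((g n i).ofConv c) := h3
    change (y (n + 1) i).ofConv (Φ.inf n c) = (x (n + 1) i).ofConv (Φ.inf n c)
    rw [hy, qc_apply, h4, sg_Qmap]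
  have h5 := eq_one_of_dn_eq_one hG hh hpu b q (y * x⁻¹) (hyc.mul hx.inv) (hyt.mul ht.inv) (fun n i hn => by
    rw [dn_mul, dn_inv, Pi.mul_apply, Pi.mul_apply, Pi.inv_apply, Pi.inv_apply, hyd n i hn, hg n i hn, mul_inv_cancel])
    n i hn
  rw [Pi.mul_apply, Pi.mul_apply, Pi.inv_apply, Pi.inv_apply, mul_inv_eq_one, hy] at h5
  exact congrArg (fun f : WithConv (Φ.B (n + 1) →ₐ[R] Q O p i) => f.ofConv a) h5

theorem exists_algHom_of_inj {A S T : Type u} [CommRing A] [CommRing S] [CommRing T] [Algebra R A] [Algebra R S]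
    [Algebra R T] (ι : S →ₐ[R] T) (hι : Function.Injective ι) (f : A →ₐ[R] T) (h : ∀ a, ∃ s, f a = ι s) :
    ∃ k : A →ₐ[R] S, ∀ a, ι (k a) = f a := by
  choose s hs using h
  refine ⟨{ toFun := s
            map_one' := ?_
            map_mul' := ?_
            map_zero' := ?_
            map_add' := ?_
            commutes' := ?_ }, fun a => (hs a).symm⟩
  · apply hι; rw [← hs, map_one, map_one]
  · intro x y; apply hι; rw [← hs, map_mul, map_mul, hs, hs]
  · apply hι; rw [← hs, map_zero, map_zero]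
  · intro x y; apply hι; rw [← hs, map_add, map_add, hs, hs]
  · intro c; apply hι; rw [← hs, f.commutes, ι.commutes]

/-- division by `p` over `R`. -/
theorem exists_div (hG : Good R O)
    (hlim : ∀ f : ℕ → R, (∀ i, (p : R) ^ i ∣ f (i + 1) - f i) → ∃ L, ∀ i, (p : R) ^ i ∣ L - f i)
    (hh : ∀ x : R, (∀ i, (p : R) ^ i ∣ x) → x = 0) (hpu : ¬ IsUnit (p : O)) (b : Bas Φ O) (q : ℕ)
    (g : Fam Φ R) (hc : Compat q g) (ht : Triv q (bc O g)) :
    ∃ g' : Fam Φ R, Compat (q + 1) g' ∧ Triv (q + 1) (bc O g') ∧ ∀ n i, n = q + i → dn g' n i = g n i := by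
  have hinj := toLm_injective hG hh
  have hQi := Qmap_injective R O p hG.dvd
  obtain ⟨x, hx, hxt, hxd⟩ := exists_div_O hG hlim hh hpu b q g hc ht
  obtain ⟨D', _, _, ⟨e⟩, -, hD⟩ := exists_fibre Φ hlim hh q g hc
  have hfin : Module.Finite R D' := Module.Finite.equiv e
  obtain ⟨y, hy, hy'⟩ := hD O x hx hxd
  have hval : ∀ d : D', ∃ r : R, y d = toLm R O p (algebraMap R O r) := by
    intro d
    obtain ⟨f, hf, hf'⟩ := Algebra.IsIntegral.isIntegral (R := R) d
    obtain ⟨s, hs⟩ := hG.split f hf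
    obtain ⟨a, -, ha⟩ := Lm.exists_of_root hpu f s hs (y d) (by
      rw [Polynomial.aeval_algHom_apply]
      have : Polynomial.aeval d f = 0 := hf'
      rw [this, map_zero])
    obtain ⟨r, rfl⟩ := hG.fixed a (by
      intro σ
      apply hinj
      apply Lm.ext'
      intro i
      obtain ⟨c, hc'⟩ := hy' (q + i) i rfl d
      have h1 := fixed_of_triv hG hh hpu b q g x hx hxt hxd σ (q + i) i rfl c
      rw [← hc', ha] at h1
      exact h1)
    exact ⟨r, ha⟩
  have hex : ∀ i, ∃ k : Φ.B (q + i + 1) →ₐ[R] Q R p i, ∀ a, Qmap R O p i (k a) = (x (q + i + 1) i).ofConv a := by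
    intro i
    refine exists_algHom_of_inj (Qmap R O p i) (hQi i) _ ?_
    intro a
    obtain ⟨d, hd⟩ := hy (q + i) i rfl a
    obtain ⟨r, hr⟩ := hval d
    exact ⟨Ideal.Quotient.mk _ r, by rw [hd, hr, toLm_apply, Qmap_mk]⟩
  choose k hk using hex
  obtain ⟨g', hg'⟩ := exists_fam (Φ := Φ) (S := R) q (fun i => WithConv.toConv (k i))
  have hb : ∀ n i, n = q + i → bc O g' (n + 1) i = x (n + 1) i := by
    intro n i hn
    subst hn
    apply WithConv.ext
    apply AlgHom.ext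
    intro a
    rw [← hk]
    change Qmap R O p i ((g' (q + i + 1) i).ofConv a) = _
    rw [hg']
  refine ⟨g', ?_, ?_, ?_⟩
  · intro n i hn
    obtain ⟨m, rfl⟩ : ∃ m, n = m + 1 := ⟨n - 1, by omega⟩
    apply WithConv.ext
    apply AlgHom.ext
    intro a
    apply hQi i
    change Qmap R O p i (tr R R p i ((g' (m + 1 + 1) (i + 1)).ofConv a)) =
      Qmap R O p i ((g' (m + 1) i).ofConv (Φ.res (m + 1) a))
    rw [← tr_Qmap]
    have h1 := congrArg (fun f : WithConv (Φ.B (m + 1 + 1) →ₐ[R] Q O p (i + 1)) => f.ofConv a)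
      (hb (m + 1) (i + 1) (by omega))
    have h2 := congrArg (fun f : WithConv (Φ.B (m + 1) →ₐ[R] Q O p i) => f.ofConv (Φ.res (m + 1) a))
      (hb m i (by omega))
    have h3 : Qmap R O p (i + 1) ((g' (m + 1 + 1) (i + 1)).ofConv a) = (x (m + 1 + 1) (i + 1)).ofConv a := h1
    have h4 : Qmap R O p i ((g' (m + 1) i).ofConv (Φ.res (m + 1) a)) = (x (m + 1) i).ofConv (Φ.res (m + 1) a) := h2
    rw [h3, h4]
    exact congrArg (fun f : WithConv (Φ.B (m + 1 + 1) →ₐ[R] Q O p i) => f.ofConv a) (hx (m + 1) i (by omega))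
  · intro n i hn w
    obtain ⟨m, rfl⟩ : ∃ m, n = m + 1 := ⟨n - 1, by omega⟩
    rw [hb m i (by omega)]
    exact hxt (m + 1) i hn w
  · intro n i hn
    apply WithConv.ext
    apply AlgHom.ext
    intro a
    apply hQi i
    have h1 := congrArg (fun f : WithConv (Φ.B (n + 1) →ₐ[R] Q O p i) => f.ofConv (Φ.inf n a)) (hb n i hn)
    have h2 : Qmap R O p i ((g' (n + 1) i).ofConv (Φ.inf n a)) = (x (n + 1) i).ofConv (Φ.inf n a) := h1
    have h3 := congrArg (fun f : WithConv (Φ.B n →ₐ[R] Q O p i) => f.ofConv a) (hxd n i hn)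
    change Qmap R O p i ((g' (n + 1) i).ofConv (Φ.inf n a)) = Qmap R O p i ((g n i).ofConv a)
    rw [h2]
    exact h3

/-- uniqueness of division by `p` over `R`. -/
theorem unique_div (hG : Good R O)
    (hh : ∀ x : R, (∀ i, (p : R) ^ i ∣ x) → x = 0) (hpu : ¬ IsUnit (p : O)) (b : Bas Φ O) (q : ℕ)
    (g g' : Fam Φ R) (hc : Compat (q + 1) g) (ht : Triv (q + 1) (bc O g)) (hc' : Compat (q + 1) g')
    (ht' : Triv (q + 1) (bc O g')) (hd : ∀ n i, n = q + i → dn g n i = dn g' n i) (n i : ℕ) (hn : n = q + i) :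
    g (n + 1) i = g' (n + 1) i := by
  have hQi := Qmap_injective R O p hG.dvd
  have h5 := eq_one_of_dn_eq_one hG hh hpu b q (bc O g * (bc O g')⁻¹) (hc.bc.mul hc'.bc.inv) (ht.mul ht'.inv)
    (fun n i hn => by
      rw [dn_mul, dn_inv, Pi.mul_apply, Pi.mul_apply, Pi.inv_apply, Pi.inv_apply, mul_inv_eq_one, dn_bc, dn_bc]
      change qc _ _ (dn g n i) = qc _ _ (dn g' n i)
      rw [hd n i hn]) n i hn
  rw [Pi.mul_apply, Pi.mul_apply, Pi.inv_apply, Pi.inv_apply, mul_inv_eq_one] at h5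
  apply WithConv.ext
  apply AlgHom.ext
  intro a
  apply hQi i
  exact congrArg (fun f : WithConv (Φ.B (n + 1) →ₐ[R] Q O p i) => f.ofConv a) h5

end

end K144.Tate
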