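import Mathlib.NumberTheory.Padics.PadicVal.Basic
import Mathlib.RingTheory.DiscreteValuationRing.Basic
import Mathlib.RingTheory.Bialgebra.TensorProduct
import Mathlib.Data.Nat.Choose.Sum
import Mathlib.Algebra.BigOperators.NatAntidiagonal

/-!
# Truncated exponentials
-/

set_option autoImplicit false
set_option linter.unusedSectionVars false
universe u v

open TensorProduct

namespace K144.Tate

section Cauchy

theorem cauchy {A : Type u} [CommRing A] (q : A) (N : ℕ) (f : ℕ → ℕ → A)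
    (h : ∀ l m, N ≤ l + m → q ∣ f l m) :
    q ∣ (∑ l ∈ Finset.range N, ∑ m ∈ Finset.range N, f l m) -
      ∑ k ∈ Finset.range N, ∑ x ∈ Finset.antidiagonal k, f x.1 x.2 := by
  classical
  rw [← Finset.sum_product']
  obtain ⟨s, hs⟩ : ∃ s, s = Finset.range N ×ˢ Finset.range N := ⟨_, rfl⟩
  rw [← hs, ← Finset.sum_filter_add_sum_filter_not s (fun x => x.1 + x.2 < N)]
  have h1 : ∑ k ∈ Finset.range N, ∑ x ∈ Finset.antidiagonal k, f x.1 x.2 =
      ∑ x ∈ s.filter (fun x => x.1 + x.2 < N), f x.1 x.2 := by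
    rw [← Finset.sum_fiberwise_of_maps_to (s := s.filter (fun x => x.1 + x.2 < N)) (t := Finset.range N)
      (g := fun x => x.1 + x.2) (fun x hx => by
        rw [Finset.mem_range]; exact (Finset.mem_filter.1 hx).2)]
    refine Finset.sum_congr rfl fun k hk => ?_
    refine Finset.sum_congr ?_ fun _ _ => rfl
    rw [Finset.mem_range] at hk
    ext ⟨a, b⟩
    simp only [Finset.mem_antidiagonal, Finset.mem_filter, hs, Finset.mem_product, Finset.mem_range]
    omega
  rw [h1, add_sub_cancel_left]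
  refine Finset.dvd_sum fun x hx => h _ _ ?_
  have := (Finset.mem_filter.1 hx).2
  omega

end Cauchy

section Coeff

variable {R : Type u} [CommRing R] [IsDomain R] [CharZero R]

/-- `c k = x^k / k!` -/
def IsExp (x : R) (c : ℕ → R) : Prop := ∀ k, (k.factorial : R) * c k = x ^ k

theorem fact_ne (k : ℕ) : (k.factorial : R) ≠ 0 := Nat.cast_ne_zero.2 (Nat.factorial_ne_zero k)

theorem IsExp.zero {x : R} {c : ℕ → R} (h : IsExp x c) : c 0 = 1 := by
  have := h 0
  simpa using this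

theorem IsExp.one {x : R} {c : ℕ → R} (h : IsExp x c) : c 1 = x := by
  have := h 1
  simpa using this

theorem IsExp.choose {x : R} {c : ℕ → R} (h : IsExp x c) (l m : ℕ) :
    c (l + m) * ((l + m).choose l : R) = c l * c m := by
  apply mul_left_cancel₀ (mul_ne_zero (fact_ne (R := R) l) (fact_ne (R := R) m))
  have h1 : (((l + m).choose l : ℕ) : R) * (l.factorial : R) * (m.factorial : R) = ((l + m).factorial : R) := by
    rw [← Nat.cast_mul, ← Nat.cast_mul, Nat.choose_symm_add, Nat.add_choose_mul_factorial_mul_factorial]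
  calc (l.factorial : R) * (m.factorial : R) * (c (l + m) * ((l + m).choose l : R))
      = (((l + m).choose l : ℕ) : R) * (l.factorial : R) * (m.factorial : R) * c (l + m) := by ring
    _ = x ^ (l + m) := by rw [h1, h]
    _ = (l.factorial : R) * c l * ((m.factorial : R) * c m) := by rw [h, h, pow_add]
    _ = _ := by ring

theorem IsExp.add {x y : R} {c d e : ℕ → R} (hc : IsExp x c) (hd : IsExp y d) (he : IsExp (x + y) e) (k : ℕ) :
    e k = ∑ z ∈ Finset.antidiagonal k, c z.1 * d z.2 := by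
  apply mul_left_cancel₀ (fact_ne (R := R) k)
  rw [he, Finset.mul_sum, Commute.add_pow' (Commute.all x y)]
  refine Finset.sum_congr rfl fun z hz => ?_
  rw [Finset.mem_antidiagonal] at hz
  subst hz
  rw [← hc, ← hd, nsmul_eq_mul]
  have h1 : (((z.1 + z.2).choose z.1 : ℕ) : R) * (z.1.factorial : R) * (z.2.factorial : R) =
      ((z.1 + z.2).factorial : R) := by
    rw [← Nat.cast_mul, ← Nat.cast_mul, Nat.choose_symm_add, Nat.add_choose_mul_factorial_mul_factorial]
  rw [← h1]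
  ring

theorem exists_isExp [IsLocalRing R] {p : ℕ} [Fact p.Prime] (hp : (p : R) ∈ IsLocalRing.maximalIdeal R) (lam : R) :
    ∃ c : ℕ → R, IsExp ((p : R) ^ 2 * lam) c ∧ ∀ k, k ≠ 0 → (p : R) ^ (k + 1) ∣ c k := by
  have hpp : p.Prime := Fact.out
  have key : ∀ k : ℕ, ∃ c : R, (k.factorial : R) * c = ((p : R) ^ 2 * lam) ^ k ∧ (k ≠ 0 → (p : R) ^ (k + 1) ∣ c) := by
    intro k
    rcases Nat.eq_zero_or_pos k with rfl | hk
    · exact ⟨1, by simp, fun h => (h rfl).elim⟩
    obtain ⟨e, u, hu, hku⟩ := Nat.exists_eq_pow_mul_and_not_dvd (Nat.factorial_ne_zero k) p hpp.ne_one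
    have he : e < k := by
      have h1 := padicValNat_factorial_lt_of_ne_zero (p := p) (n := k) (by omega)
      have h0 : u ≠ 0 := fun h => hu (h ▸ dvd_zero _)
      rw [hku, padicValNat.mul (pow_ne_zero _ hpp.ne_zero) h0, padicValNat.prime_pow,
        padicValNat.eq_zero_of_not_dvd hu, add_zero] at h1
      exact h1
    have huu : IsUnit (u : R) := by
      by_contra hc
      have h1 : (u : R) ∈ IsLocalRing.maximalIdeal R := (IsLocalRing.mem_maximalIdeal _).2 hc
      have h2 : Nat.Coprime u p := ((Nat.Prime.coprime_iff_not_dvd hpp).2 hu).symm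
      have h3 := Nat.isCoprime_iff_coprime.2 h2
      obtain ⟨a, b, hab⟩ := h3
      have h4 : ((a : ℤ) : R) * (u : R) + ((b : ℤ) : R) * (p : R) = 1 := by
        have := congrArg (fun z : ℤ => (z : R)) hab
        push_cast at this
        exact this
      have h5 : (1 : R) ∈ IsLocalRing.maximalIdeal R := by
        rw [← h4]
        exact Ideal.add_mem _ (Ideal.mul_mem_left _ _ h1) (Ideal.mul_mem_left _ _ hp)
      exact (Ideal.ne_top_iff_one _).1 (IsLocalRing.maximalIdeal.isMaximal R).ne_top h5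
    obtain ⟨w, hw⟩ := huu
    refine ⟨(p : R) ^ (2 * k - e) * lam ^ k * ((w⁻¹ : Rˣ) : R), ?_, fun _ => ?_⟩
    · rw [hku]
      push_cast
      have h6 : (u : R) * ((w⁻¹ : Rˣ) : R) = 1 := by rw [← hw, Units.mul_inv]
      have h7 : (p : R) ^ e * (p : R) ^ (2 * k - e) = (p : R) ^ (2 * k) := by
        rw [← pow_add]; congr 1; omega
      calc (p : R) ^ e * (u : R) * ((p : R) ^ (2 * k - e) * lam ^ k * ((w⁻¹ : Rˣ) : R))
          = ((p : R) ^ e * (p : R) ^ (2 * k - e)) * lam ^ k * ((u : R) * ((w⁻¹ : Rˣ) : R)) := by ring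
        _ = _ := by rw [h6, h7, mul_one, mul_pow, ← pow_mul]
    · rw [mul_assoc]
      exact Dvd.dvd.mul_right (pow_dvd_pow _ (by omega)) _
  choose c hc hc' using key
  exact ⟨c, hc, hc'⟩

end Coeff

section ExpSum

variable {R : Type u} [CommRing R]

/-- truncated exponential series. -/
noncomputable def Ex {A : Type v} [CommRing A] [Algebra R A] (c : ℕ → R) (N : ℕ) (a : A) : A :=
  ∑ k ∈ Finset.range N, c k • a ^ k

theorem Ex_map {A B : Type*} [CommRing A] [Algebra R A] [CommRing B] [Algebra R B] (f : A →ₐ[R] B)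
    (c : ℕ → R) (N : ℕ) (a : A) : f (Ex c N a) = Ex c N (f a) := by
  rw [Ex, Ex, map_sum]
  refine Finset.sum_congr rfl fun k _ => ?_
  rw [map_smul, map_pow]

theorem Ex_congr {A : Type v} [CommRing A] [Algebra R A] (c : ℕ → R) (N : ℕ) (q : R) {a b : A}
    (h : algebraMap R A q ∣ a - b) : algebraMap R A q ∣ Ex c N a - Ex c N b := by
  rw [Ex, Ex, ← Finset.sum_sub_distrib]
  refine Finset.dvd_sum fun k _ => ?_
  rw [← smul_sub, Algebra.smul_def]
  exact Dvd.dvd.mul_left (h.trans (sub_dvd_pow_sub_pow a b k)) _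

theorem Ex_succ {A : Type v} [CommRing A] [Algebra R A] (c : ℕ → R) (N : ℕ) (q : R) (a : A) (h : q ∣ c N) :
    algebraMap R A q ∣ Ex c (N + 1) a - Ex c N a := by
  rw [Ex, Ex, Finset.sum_range_succ, add_sub_cancel_left, Algebra.smul_def]
  exact Dvd.dvd.mul_right (map_dvd _ h) _

theorem Ex_zero {A : Type v} [CommRing A] [Algebra R A] (c : ℕ → R) (N : ℕ) (h : c 0 = 1) : Ex c (N + 1) (0 : A) = 1 := by
  rw [Ex, Finset.sum_range_succ']
  simp [h]

variable [IsDomain R] [CharZero R]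

/-- `exp ((x + y) a) = exp (x a) exp (y a)` modulo `q`. -/
theorem Ex_add {A : Type v} [CommRing A] [Algebra R A] {x y : R} {c d e : ℕ → R} (hc : IsExp x c) (hd : IsExp y d)
    (he : IsExp (x + y) e) (N : ℕ) (q : R) (h : ∀ l m, N ≤ l + m → q ∣ c l * d m) (a : A) :
    algebraMap R A q ∣ Ex c N a * Ex d N a - Ex e N a := by
  have h1 := cauchy (algebraMap R A q) N (fun l m => (c l * d m) • (a ^ l * a ^ m)) (fun l m hlm => by
    rw [Algebra.smul_def]
    exact Dvd.dvd.mul_right (map_dvd _ (h l m hlm)) _)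
  have h2 : Ex c N a * Ex d N a =
      ∑ l ∈ Finset.range N, ∑ m ∈ Finset.range N, (c l * d m) • (a ^ l * a ^ m) := by
    rw [Ex, Ex, Finset.sum_mul_sum]
    refine Finset.sum_congr rfl fun l _ => Finset.sum_congr rfl fun m _ => ?_
    rw [smul_mul_smul_comm]
  have h3 : Ex e N a = ∑ k ∈ Finset.range N, ∑ x ∈ Finset.antidiagonal k, (c x.1 * d x.2) • (a ^ x.1 * a ^ x.2) := by
    rw [Ex]
    refine Finset.sum_congr rfl fun k _ => ?_
    rw [hc.add hd he, Finset.sum_smul]
    refine Finset.sum_congr rfl fun z hz => ?_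
    rw [Finset.mem_antidiagonal] at hz
    rw [← pow_add, hz]
  rw [h2, h3]
  exact h1

/-- `exp (a + b) = exp a exp b` modulo `q`. -/
theorem Ex_add' {A : Type v} [CommRing A] [Algebra R A] {x : R} {c : ℕ → R} (hc : IsExp x c)
    (N : ℕ) (q : R) (h : ∀ l m, N ≤ l + m → q ∣ c l * c m) (a b : A) :
    algebraMap R A q ∣ Ex c N a * Ex c N b - Ex c N (a + b) := by
  have h1 := cauchy (algebraMap R A q) N (fun l m => (c l * c m) • (a ^ l * b ^ m)) (fun l m hlm => by
    rw [Algebra.smul_def]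
    exact Dvd.dvd.mul_right (map_dvd _ (h l m hlm)) _)
  have h2 : Ex c N a * Ex c N b =
      ∑ l ∈ Finset.range N, ∑ m ∈ Finset.range N, (c l * c m) • (a ^ l * b ^ m) := by
    rw [Ex, Ex, Finset.sum_mul_sum]
    refine Finset.sum_congr rfl fun l _ => Finset.sum_congr rfl fun m _ => ?_
    rw [smul_mul_smul_comm]
  have h3 : Ex c N (a + b) =
      ∑ k ∈ Finset.range N, ∑ x ∈ Finset.antidiagonal k, (c x.1 * c x.2) • (a ^ x.1 * b ^ x.2) := by
    rw [Ex]
    refine Finset.sum_congr rfl fun k _ => ?_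
    rw [Commute.add_pow' (Commute.all a b), Finset.smul_sum]
    refine Finset.sum_congr rfl fun z hz => ?_
    rw [Finset.mem_antidiagonal] at hz
    subst hz
    rw [← hc.choose, nsmul_eq_mul, mul_smul, Algebra.smul_def ((((z.1 + z.2).choose z.1 : ℕ) : R)), map_natCast]
  rw [h2, h3]
  exact h1

/-- the exponential of an element which is primitive modulo `q` is group-like modulo `q`. -/
theorem Ex_comul {H : Type v} [CommRing H] [Bialgebra R H] {x : R} {c : ℕ → R} (hc : IsExp x c)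
    (N : ℕ) (q : R) (h : ∀ l m, N ≤ l + m → q ∣ c l * c m) (t : H)
    (ht : algebraMap R (H ⊗[R] H) q ∣ Coalgebra.comul (R := R) t - (t ⊗ₜ 1 + 1 ⊗ₜ t)) :
    algebraMap R (H ⊗[R] H) q ∣ Coalgebra.comul (R := R) (Ex c N t) - Ex c N t ⊗ₜ Ex c N t := by
  have h1 : Coalgebra.comul (R := R) (Ex c N t) = Ex c N (Coalgebra.comul (R := R) t) :=
    Ex_map (Bialgebra.comulAlgHom R H) c N t
  have h2 : (Ex c N t) ⊗ₜ[R] (Ex c N t) = Ex c N (t ⊗ₜ[R] (1 : H)) * Ex c N ((1 : H) ⊗ₜ[R] t) := by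
    have e1 := Ex_map (Algebra.TensorProduct.includeLeft (R := R) (S := R) (A := H) (B := H)) c N t
    have e2 := Ex_map (Algebra.TensorProduct.includeRight (R := R) (A := H) (B := H)) c N t
    rw [Algebra.TensorProduct.includeLeft_apply, Algebra.TensorProduct.includeLeft_apply] at e1
    rw [Algebra.TensorProduct.includeRight_apply, Algebra.TensorProduct.includeRight_apply] at e2
    rw [← e1, ← e2, Algebra.TensorProduct.tmul_mul_tmul, one_mul, mul_one]
  rw [h1, h2]
  have h3 := Ex_congr c N q ht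
  have h4 := Ex_add' hc N q h (t ⊗ₜ[R] (1 : H)) ((1 : H) ⊗ₜ[R] t)
  have h5 := dvd_sub h3 h4
  have h6 : Ex c N (Coalgebra.comul (R := R) t) - Ex c N (t ⊗ₜ[R] (1 : H)) * Ex c N ((1 : H) ⊗ₜ[R] t) =
      Ex c N (Coalgebra.comul (R := R) t) - Ex c N (t ⊗ₜ[R] (1 : H) + (1 : H) ⊗ₜ[R] t) -
      (Ex c N (t ⊗ₜ[R] (1 : H)) * Ex c N ((1 : H) ⊗ₜ[R] t) - Ex c N (t ⊗ₜ[R] (1 : H) + (1 : H) ⊗ₜ[R] t)) := by ring
  rw [h6]
  exact h5

theorem Ex_comul' {H : Type v} [CommRing H] [Bialgebra R H] {x : R} {c : ℕ → R} (hc : IsExp x c)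
    (N : ℕ) (q : R) (h : ∀ l m, N ≤ l + m → q ∣ c l * c m) (t : H)
    (ht : ∃ y : H ⊗[R] H, Coalgebra.comul (R := R) t - (t ⊗ₜ 1 + 1 ⊗ₜ t) = q • y) :
    ∃ y : H ⊗[R] H, Coalgebra.comul (R := R) (Ex c N t) - Ex c N t ⊗ₜ Ex c N t = q • y := by
  obtain ⟨y, hy⟩ := ht
  obtain ⟨y', hy'⟩ := Ex_comul hc N q h t ⟨y, by rw [hy, Algebra.smul_def]⟩
  exact ⟨y', by rw [hy', Algebra.smul_def]⟩

end ExpSum

end K144.Tate
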