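import Groth.Agent.SGA7.K144.Fam
import Groth.Agent.SGA7.K144.Exp

/-!
# The one-parameter families attached to an element of the Lie algebra
-/

set_option autoImplicit false
set_option linter.unusedSectionVars false
universe u v

open TensorProduct CartDual K564.Tate

namespace K144.Tate

section One

variable {R : Type u} [CommRing R] [IsDomain R] [CharZero R] {B : Type u} [CommRing B] [HopfAlgebra R B]
  [Coalgebra.IsCocomm R B] [Module.Finite R B] [Module.Free R B]

theorem exists_smul_of_dvd {M : Type u} [AddCommGroup M] [Module R M] [Module.Free R M] (q : R) (F : Module.Dual R M)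
    (hF : ∀ x, q ∣ F x) : ∃ F' : Module.Dual R M, F = q • F' := by
  choose c hc using fun i => hF (Module.Free.chooseBasis R M i)
  refine ⟨(Module.Free.chooseBasis R M).constr R c, ?_⟩
  apply (Module.Free.chooseBasis R M).ext
  intro i
  rw [hc, LinearMap.smul_apply, Module.Basis.constr_basis, smul_eq_mul]

theorem primitive_of_der (q : R) (t : D R B) (ht : ∀ a b : B, q ∣ t (a * b) -
    (Coalgebra.counit (R := R) a * t b + Coalgebra.counit (R := R) b * t a)) :
    ∃ y : D R B ⊗[R] D R B, Coalgebra.comul (R := R) t - (t ⊗ₜ 1 + 1 ⊗ₜ t) = q • y := by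
  obtain ⟨F, hF⟩ := exists_smul_of_dvd q (ev₂ R B (Coalgebra.comul (R := R) t - (t ⊗ₜ 1 + 1 ⊗ₜ t))) (by
    intro x
    induction x with
    | zero => rw [map_zero]; exact dvd_zero _
    | add x y hx hy => rw [map_add]; exact dvd_add hx hy
    | tmul a b =>
      rw [map_sub, map_add, LinearMap.sub_apply, LinearMap.add_apply, ev₂_coalgebra_comul_tmul, ev₂_tmul, ev₂_tmul]
      have h1 : ∀ c : B, (1 : D R B) c = Coalgebra.counit (R := R) c := fun c => by
        rw [LinearMap.convOne_apply]; rfl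
      rw [h1, h1]
      have h2 := ht a b
      have h3 : t (a * b) - (t a * Coalgebra.counit (R := R) b + Coalgebra.counit (R := R) a * t b) =
        t (a * b) - (Coalgebra.counit (R := R) a * t b + Coalgebra.counit (R := R) b * t a) := by ring
      rw [h3]
      exact h2)
  refine ⟨(ev₂ R B).symm F, ?_⟩
  apply (ev₂ R B).injective
  rw [hF, map_smul, LinearEquiv.apply_symm_apply]

theorem Ex_mul_dvd {x : R} {c : ℕ → R} (hc : IsExp x c)
    (N : ℕ) (q : R) (h : ∀ l m, N ≤ l + m → q ∣ c l * c m) (t : D R B) (ht : ∀ a b : B, q ∣ t (a * b) -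
    (Coalgebra.counit (R := R) a * t b + Coalgebra.counit (R := R) b * t a)) (a b : B) :
    q ∣ (Ex c N t : D R B) (a * b) - (Ex c N t : D R B) a * (Ex c N t : D R B) b := by
  obtain ⟨y, hy⟩ := Ex_comul' hc N q h t (primitive_of_der q t ht)
  have h1 := congrArg (fun z => ev₂ R B z (a ⊗ₜ b)) hy
  simp only [map_sub, LinearMap.sub_apply, ev₂_coalgebra_comul_tmul, ev₂_tmul] at h1
  rw [h1, map_smul, LinearMap.smul_apply, smul_eq_mul]
  exact dvd_mul_right _ _

theorem Ex_one_dvd {c : ℕ → R} (h0 : c 0 = 1)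
    (N : ℕ) (q : R) (t : D R B) (ht : ∀ a b : B, q ∣ t (a * b) -
    (Coalgebra.counit (R := R) a * t b + Coalgebra.counit (R := R) b * t a)) :
    q ∣ (Ex c (N + 1) t : D R B) 1 - 1 := by
  have h1 : (Ex c (N + 1) t : D R B) 1 = Ex c (N + 1) (t 1) := Ex_map (Bialgebra.counitAlgHom R (D R B)) c (N + 1) t
  have h2 : q ∣ t 1 := by
    have := ht 1 1
    simp only [mul_one, Bialgebra.counit_one, one_mul] at this
    have h3 : t 1 - (t 1 + t 1) = - t 1 := by ring
    rw [h3] at this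
    exact (dvd_neg).1 this
  have h4 := Ex_congr (A := R) c (N + 1) q (a := t 1) (b := 0) (by rw [sub_zero]; exact h2)
  rw [Ex_zero c N h0] at h4
  rw [h1]
  exact h4

end One

section Pt

variable {R : Type u} [CommRing R] {p : ℕ} {B : Type u} [CommRing B] [HopfAlgebra R B]
  [Coalgebra.IsCocomm R B] [Module.Finite R B] [Module.Free R B]

/-- points with values in `R / p^i` from group-like forms modulo `p^i`. -/
theorem exists_pt (i : ℕ) (u : D R B) (h1 : (p : R) ^ i ∣ u 1 - 1) (h2 : ∀ a b, (p : R) ^ i ∣ u (a * b) - u a * u b) :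
    ∃ g : WithConv (B →ₐ[R] Q R p i), ∀ b, g.ofConv b = Ideal.Quotient.mk _ (u b) := by
  refine ⟨WithConv.toConv (AlgHom.ofLinearMap ((Qmk R R p i).toLinearMap ∘ₗ u.ofConv) ?_ ?_), fun b => rfl⟩
  · change Ideal.Quotient.mk _ (u 1) = 1
    rw [← map_one (Ideal.Quotient.mk _), Ideal.Quotient.eq, Ideal.mem_span_singleton]
    exact h1
  · intro a b
    change Ideal.Quotient.mk _ (u (a * b)) = Ideal.Quotient.mk _ (u a) * Ideal.Quotient.mk _ (u b)
    rw [← map_mul, Ideal.Quotient.eq, Ideal.mem_span_singleton]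
    exact h2 a b

theorem pt_mul (i : ℕ) (u u' : D R B) (g g' : WithConv (B →ₐ[R] Q R p i))
    (h : ∀ b, g.ofConv b = Ideal.Quotient.mk _ (u b)) (h' : ∀ b, g'.ofConv b = Ideal.Quotient.mk _ (u' b)) (b : B) :
    (g * g').ofConv b = Ideal.Quotient.mk _ ((u * u' : D R B) b) := by
  have e1 := LinearMap.algHom_comp_convMul_distrib (Qmk R R p i) u u'
  have e2 := AlgHom.toLinearMap_convMul g g'
  have e3 : g.ofConv.toLinearMap = (Qmk R R p i).toLinearMap ∘ₗ u.ofConv := LinearMap.ext h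
  have e4 : g'.ofConv.toLinearMap = (Qmk R R p i).toLinearMap ∘ₗ u'.ofConv := LinearMap.ext h'
  have e5 : (g * g').ofConv.toLinearMap = (Qmk R R p i).toLinearMap ∘ₗ (u * u').ofConv := by
    rw [e1]
    rw [← e3, ← e4]
    exact congrArg WithConv.ofConv e2
  exact LinearMap.congr_fun e5 b

theorem pr_pt {O : Type u} [CommRing O] [Algebra R O] (i : ℕ) (u : D R B) (g : WithConv (B →ₐ[R] Q R p i))
    (h : ∀ b, g.ofConv b = Ideal.Quotient.mk _ (u b)) (w : WithConv (D R B →ₐ[R] O)) :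
    pr B (qc _ (Qmap R O p i) g).ofConv.toLinearMap (qc _ (Qmk R O p i) w).ofConv.toLinearMap =
      Qmk R O p i (w.ofConv u) := by
  have e1 : (qc _ (Qmap R O p i) g).ofConv.toLinearMap = (Qmk R O p i).toLinearMap ∘ₗ io O u := by
    apply LinearMap.ext
    intro b
    change Qmap R O p i (g.ofConv b) = Qmk R O p i (algebraMap R O (u b))
    rw [h, Qmap_mk, Qmk_apply]
  have e2 : (qc _ (Qmk R O p i) w).ofConv.toLinearMap = (Qmk R O p i).toLinearMap ∘ₗ w.ofConv.toLinearMap := rfl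
  rw [e1, e2, pr_map, pr_io]
  rfl

end Pt

section Fam

variable {R : Type u} [CommRing R] [IsDomain R] [CharZero R] {p h : ℕ} {Φ : Sys R p h}
  {O : Type u} [CommRing O] [Algebra R O]

theorem exists_fam0 (f : ∀ i, WithConv (Φ.B i →ₐ[R] Q R p i)) : ∃ x : Fam Φ R, ∀ i, x i i = f i := by
  classical
  refine ⟨fun n i => if h : n = i then h ▸ f i else 1, fun i => by simp⟩

/-- the family `exp (x t)`. -/
theorem exists_exp (t : ∀ n, Φ.B n →ₗ[R] R) (ht : Φ.IsLie t)
    (hev : ∀ n (w : WithConv (D R (Φ.B n) →ₐ[R] O)), (p : O) ^ n ∣ w.ofConv (WithConv.toConv (t n)))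
    {x : R} {c : ℕ → R} (hc : IsExp x c) (hcp : ∀ k, k ≠ 0 → (p : R) ^ (k + 1) ∣ c k) :
    ∃ g : Fam Φ R, Compat 0 g ∧ Triv 0 (bc O g) ∧
      ∀ n b, (g n n).ofConv b = Ideal.Quotient.mk _ ((Ex c (n + 1) (WithConv.toConv (t n) : D R (Φ.B n)) : D R (Φ.B n)) b) := by
  have hcp' : ∀ k, (p : R) ^ k ∣ c k := by
    intro k
    rcases Nat.eq_zero_or_pos k with rfl | hk
    · simp
    · exact (pow_dvd_pow _ (by omega)).trans (hcp k (by omega))
  have hdiv : ∀ n l m, n + 1 ≤ l + m → (p : R) ^ n ∣ c l * c m := by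
    intro n l m hlm
    refine (pow_dvd_pow _ (show n ≤ l + m by omega)).trans ?_
    rw [pow_add]
    exact mul_dvd_mul (hcp' l) (hcp' m)
  choose f hf using fun n => exists_pt (p := p) n (Ex c (n + 1) (WithConv.toConv (t n) : D R (Φ.B n)))
    (Ex_one_dvd hc.zero n _ _ (fun a b => ht.der n a b))
    (Ex_mul_dvd hc (n + 1) _ (hdiv n) _ (fun a b => ht.der n a b))
  obtain ⟨g, hg⟩ := exists_fam0 (Φ := Φ) f
  have hg' : ∀ n b, (g n n).ofConv b =
      Ideal.Quotient.mk _ ((Ex c (n + 1) (WithConv.toConv (t n) : D R (Φ.B n)) : D R (Φ.B n)) b) := by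
    intro n b
    rw [hg, hf]
  refine ⟨g, ?_, ?_, hg'⟩
  · intro n i hn
    obtain rfl : n = i := by omega
    apply WithConv.ext
    apply AlgHom.ext
    intro b
    change tr R R p n ((g (n + 1) (n + 1)).ofConv b) = (g n n).ofConv (Φ.res n b)
    rw [hg', hg', tr_mk, Ideal.Quotient.eq, Ideal.mem_span_singleton]
    have h1 : (Ex c (n + 1) (WithConv.toConv (t n) : D R (Φ.B n)) : D R (Φ.B n)) (Φ.res n b) =
        (Ex c (n + 1) (transpose R (Φ.res n) (WithConv.toConv (t n))) : D R (Φ.B (n + 1))) b := by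
      rw [← transpose_apply R (Φ.res n)]
      congr 1
      exact congrArg _ (Ex_map (transpose R (Φ.res n) : D R (Φ.B n) →ₐ[R] D R (Φ.B (n + 1))) c (n + 1) _)
    rw [h1]
    have h2 := Ex_succ c (n + 1) ((p : R) ^ n) (WithConv.toConv (t (n + 1)) : D R (Φ.B (n + 1)))
      ((pow_dvd_pow _ (by omega)).trans (hcp' (n + 1)))
    have h3 : algebraMap R (D R (Φ.B (n + 1))) ((p : R) ^ n) ∣
        (WithConv.toConv (t (n + 1)) : D R (Φ.B (n + 1))) - transpose R (Φ.res n) (WithConv.toConv (t n)) := by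
      obtain ⟨F, hF⟩ := exists_smul_of_dvd ((p : R) ^ n)
        (t (n + 1) - (t n) ∘ₗ (Φ.res n : Φ.B (n + 1) →ₐ[R] Φ.B n).toLinearMap) (fun x => ht.compat n x)
      refine ⟨WithConv.toConv F, ?_⟩
      rw [← Algebra.smul_def]
      exact congrArg WithConv.toConv hF
    have h4 := Ex_congr c (n + 1) ((p : R) ^ n) h3
    have h5 := dvd_add h2 h4
    rw [sub_add_sub_cancel] at h5
    obtain ⟨y, hy⟩ := h5
    rw [← Algebra.smul_def] at hy
    have h6 := congrArg (fun z : D R (Φ.B (n + 1)) => z b) hy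
    have h7 : (Ex c (n + 1 + 1) (WithConv.toConv (t (n + 1)) : D R (Φ.B (n + 1))) : D R (Φ.B (n + 1))) b -
        (Ex c (n + 1) (transpose R (Φ.res n) (WithConv.toConv (t n))) : D R (Φ.B (n + 1))) b = (p : R) ^ n * y b := h6
    rw [h7]
    exact dvd_mul_right _ _
  · intro n i hn w
    obtain rfl : n = i := by omega
    have h1 := pr_pt n _ (g n n) (hg' n) w
    change pr _ (qc _ (Qmap R O p n) (g n n)).ofConv.toLinearMap _ = 1
    rw [h1, Ex_map, Qmk_apply, ← map_one (Ideal.Quotient.mk _), Ideal.Quotient.eq, Ideal.mem_span_singleton]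
    have h2 := Ex_congr (A := O) c (n + 1) ((p : R) ^ n) (a := w.ofConv (WithConv.toConv (t n))) (b := 0) (by
      rw [sub_zero, map_pow, map_natCast]; exact hev n w)
    rw [Ex_zero c n hc.zero, map_pow, map_natCast] at h2
    exact h2

end Fam

end K144.Tate
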