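import Mathlib.RingTheory.Valuation.ValuationRing
import Mathlib.RingTheory.IntegralClosure.IsIntegralClosure.Basic
import Mathlib.FieldTheory.IsAlgClosed.Basic
import Mathlib.RingTheory.AdicCompletion.Basic

/-!
# The limit of the quotients `S / p^i`
-/

set_option autoImplicit false
universe u v

open Polynomial

namespace K144.Tate

/-- `S / p^i` -/
abbrev Q (S : Type u) [CommRing S] (p i : ℕ) : Type u := S ⧸ Ideal.span {(p : S) ^ i}

section Tr

variable (R : Type u) [CommRing R] (S : Type u) [CommRing S] [Algebra R S] (p : ℕ)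

theorem span_le (i : ℕ) : Ideal.span {(p : S) ^ (i + 1)} ≤ Ideal.span {(p : S) ^ i} := by
  rw [Ideal.span_singleton_le_span_singleton, pow_succ]
  exact dvd_mul_right _ _

/-- reduction `S / p^(i+1) → S / p^i` -/
noncomputable def tr (i : ℕ) : Q S p (i + 1) →ₐ[R] Q S p i := Ideal.Quotient.factorₐ R (span_le S p i)

theorem tr_mk (i : ℕ) (a : S) : tr R S p i (Ideal.Quotient.mk _ a) = Ideal.Quotient.mk _ a := rfl

/-- the limit of the `S / p^i` -/
def Lm : Subalgebra R (∀ i, Q S p i) where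
  carrier := {z | ∀ i, tr R S p i (z (i + 1)) = z i}
  mul_mem' {x y} hx hy i := by
    have h1 := hx i
    have h2 := hy i
    simp only [Pi.mul_apply, map_mul, h1, h2]
  add_mem' {x y} hx hy i := by
    have h1 := hx i
    have h2 := hy i
    simp only [Pi.add_apply, map_add, h1, h2]
  algebraMap_mem' r i := by
    exact (tr R S p i).commutes r

variable {R S p}

theorem Lm.tr_eq (z : Lm R S p) (i : ℕ) : tr R S p i (z.1 (i + 1)) = z.1 i := z.2 i

theorem Lm.ext' {z w : Lm R S p} (h : ∀ i, z.1 i = w.1 i) : z = w := Subtype.ext (funext h)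

theorem Lm.lift_le (z : Lm R S p) (n : ℕ) (a : S) (ha : z.1 n = Ideal.Quotient.mk _ a) (i : ℕ) (hi : i ≤ n) :
    z.1 i = Ideal.Quotient.mk _ a := by
  induction n with
  | zero =>
    obtain rfl : i = 0 := by omega
    exact ha
  | succ n ih =>
    rcases Nat.lt_or_ge n i with h | h
    · obtain rfl : i = n + 1 := by omega
      exact ha
    · refine ih ?_ h
      rw [← Lm.tr_eq z n, ha]
      rfl

variable (R S p)

/-- the canonical map to the limit -/
noncomputable def toLm : S →ₐ[R] Lm R S p where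
  toFun a := ⟨fun _ => Ideal.Quotient.mk _ a, fun _ => rfl⟩
  map_one' := rfl
  map_mul' _ _ := rfl
  map_zero' := rfl
  map_add' _ _ := rfl
  commutes' _ := rfl

theorem toLm_apply (a : S) (i : ℕ) : (toLm R S p a).1 i = Ideal.Quotient.mk _ a := rfl

end Tr

section Dom

variable {R : Type u} [CommRing R] {O : Type u} [CommRing O] [Algebra R O] [IsDomain O] [ValuationRing O] {p : ℕ}

theorem Lm.mul_ne_zero {z w : Lm R O p} (hz : z ≠ 0) (hw : w ≠ 0) :
    z * w ≠ 0 := by
  obtain ⟨i, hi⟩ : ∃ i, z.1 i ≠ 0 := by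
    by_contra hc
    push Not at hc
    exact hz (Lm.ext' hc)
  obtain ⟨l, hl⟩ : ∃ l, w.1 l ≠ 0 := by
    by_contra hc
    push Not at hc
    exact hw (Lm.ext' hc)
  obtain ⟨a, ha⟩ := Ideal.Quotient.mk_surjective (z.1 (i + l))
  obtain ⟨b, hb⟩ := Ideal.Quotient.mk_surjective (w.1 (i + l))
  have ha1 := Lm.lift_le z (i + l) a ha.symm i (by omega)
  have hb1 := Lm.lift_le w (i + l) b hb.symm l (by omega)
  have ha2 : ¬ (p : O) ^ i ∣ a := fun h => hi (by
    rw [ha1, Ideal.Quotient.eq_zero_iff_mem, Ideal.mem_span_singleton]; exact h)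
  have hb2 : ¬ (p : O) ^ l ∣ b := fun h => hl (by
    rw [hb1, Ideal.Quotient.eq_zero_iff_mem, Ideal.mem_span_singleton]; exact h)
  intro h0
  have h1 : (z * w).1 (i + l) = 0 := by rw [h0]; rfl
  have h2 : (z * w).1 (i + l) = Ideal.Quotient.mk _ (a * b) := by
    change z.1 (i + l) * w.1 (i + l) = _
    rw [← ha, ← hb, map_mul]
  rw [h2, Ideal.Quotient.eq_zero_iff_mem, Ideal.mem_span_singleton] at h1
  obtain ⟨c, hc⟩ : a ∣ (p : O) ^ i := (ValuationRing.dvd_total _ _).resolve_right ha2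
  obtain ⟨d, hd⟩ : b ∣ (p : O) ^ l := (ValuationRing.dvd_total _ _).resolve_right hb2
  obtain ⟨y, hy⟩ := h1
  have ha0 : a ≠ 0 := fun h => ha2 (h ▸ dvd_zero _)
  have hb0 : b ≠ 0 := fun h => hb2 (h ▸ dvd_zero _)
  have h3 : a * b * 1 = a * b * (c * d * y) := by
    rw [mul_one]
    conv_lhs => rw [hy, pow_add, hc, hd]
    ring
  have h4 := mul_left_cancel₀ (_root_.mul_ne_zero ha0 hb0) h3
  have hcu : IsUnit c := IsUnit.of_mul_eq_one (d * y) (by rw [← mul_assoc, ← h4])
  apply ha2
  rw [hc]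
  obtain ⟨u, rfl⟩ := hcu
  exact ⟨((u⁻¹ : Oˣ) : O), by rw [mul_assoc, Units.mul_inv, mul_one]⟩

theorem Lm.isDomain (hpu : ¬ IsUnit (p : O)) : IsDomain (Lm R O p) := by
  have h1 : NoZeroDivisors (Lm R O p) := ⟨fun {a b} hab => by
    by_contra hc
    push Not at hc
    exact Lm.mul_ne_zero hc.1 hc.2 hab⟩
  have h2 : Nontrivial (Lm R O p) := by
    refine ⟨0, 1, fun h => hpu ?_⟩
    have h3 : (0 : Lm R O p).1 1 = (1 : Lm R O p).1 1 := by rw [h]
    have h4 : (0 : Q O p 1) = 1 := h3
    have h5 : (Ideal.Quotient.mk (Ideal.span {(p : O) ^ 1})) 1 = 0 := h4.symm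
    rw [Ideal.Quotient.eq_zero_iff_mem, Ideal.mem_span_singleton, pow_one] at h5
    exact isUnit_of_dvd_one h5
  exact NoZeroDivisors.to_isDomain _

/-- elements of the limit which are roots of a split polynomial are in the image. -/
theorem Lm.exists_of_root (hpu : ¬ IsUnit (p : O)) (f : R[X]) (s : Multiset O)
    (hs : f.map (algebraMap R O) = (s.map fun a => X - C a).prod) (z : Lm R O p) (hz : aeval z f = 0) :
    ∃ a ∈ s, z = toLm R O p a := by
  have := Lm.isDomain (R := R) (O := O) hpu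
  have h1 : aeval z f = (s.map fun a => z - toLm R O p a).prod := by
    have h2 : aeval z f = eval₂ (toLm R O p : O →+* Lm R O p) z (f.map (algebraMap R O)) := by
      rw [eval₂_map, aeval_def]
      congr 1
    rw [h2, hs, eval₂_multiset_prod, Multiset.map_map]
    congr 1
    refine Multiset.map_congr rfl fun a _ => ?_
    simp only [Function.comp_apply, eval₂_sub, eval₂_X, eval₂_C]
    rfl
  rw [h1] at hz
  have h3 := Multiset.prod_eq_zero_iff.1 hz
  obtain ⟨a, ha, h4⟩ := Multiset.mem_map.1 h3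
  exact ⟨a, ha, sub_eq_zero.1 h4⟩

end Dom

end K144.Tate
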