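import Groth.Agent.SGA7.K144.Struct
import Groth.Agent.SGA7.K144.Lim
import Groth.Agent.SGA7.K564.Tate.Pairing

/-!
# Families of points of the layers of a Barsotti-Tate system with values in the quotients `S / p^i`
-/

set_option autoImplicit false
set_option linter.unusedSectionVars false
universe u v

open TensorProduct CartDual K564.Tate

namespace K144.Tate

section Maps

variable (R : Type u) [CommRing R] (S : Type u) [CommRing S] [Algebra R S] (p : ℕ)

/-- `R / p^i → S / p^i` -/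
noncomputable def Qmap (i : ℕ) : Q R p i →ₐ[R] Q S p i :=
  Ideal.Quotient.liftₐ _ ((Ideal.Quotient.mkₐ R (Ideal.span {(p : S) ^ i})).comp (Algebra.ofId R S)) (by
    intro a ha
    rw [Ideal.mem_span_singleton] at ha
    obtain ⟨c, rfl⟩ := ha
    rw [AlgHom.comp_apply, Ideal.Quotient.mkₐ_eq_mk, Ideal.Quotient.eq_zero_iff_mem, Ideal.mem_span_singleton,
      map_mul, map_pow, map_natCast]
    exact dvd_mul_right _ _)

theorem Qmap_mk (i : ℕ) (a : R) : Qmap R S p i (Ideal.Quotient.mk _ a) = Ideal.Quotient.mk _ (algebraMap R S a) := rfl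

/-- `S → S / p^i` -/
noncomputable def Qmk (i : ℕ) : S →ₐ[R] Q S p i := Ideal.Quotient.mkₐ R _

theorem Qmk_apply (i : ℕ) (a : S) : Qmk R S p i a = Ideal.Quotient.mk _ a := rfl

theorem tr_Qmk (i : ℕ) (a : S) : tr R S p i (Qmk R S p (i + 1) a) = Qmk R S p i a := rfl

theorem tr_Qmap (i : ℕ) (a : Q R p (i + 1)) : tr R S p i (Qmap R S p (i + 1) a) = Qmap R S p i (tr R R p i a) := by
  obtain ⟨a, rfl⟩ := Ideal.Quotient.mk_surjective a
  rfl

theorem Qmap_injective (hdvd : ∀ r s : R, algebraMap R S r ∣ algebraMap R S s → r ∣ s) (i : ℕ) :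
    Function.Injective (Qmap R S p i) := by
  rw [injective_iff_map_eq_zero]
  intro a ha
  obtain ⟨a, rfl⟩ := Ideal.Quotient.mk_surjective a
  rw [Qmap_mk, Ideal.Quotient.eq_zero_iff_mem, Ideal.mem_span_singleton] at ha
  rw [Ideal.Quotient.eq_zero_iff_mem, Ideal.mem_span_singleton]
  apply hdvd
  rw [map_pow, map_natCast]
  exact ha

end Maps

section Fam

variable {R : Type u} [CommRing R] {p h : ℕ} (Φ : Sys R p h)

/-- doubly indexed families of points. -/
abbrev Fam (S : Type u) [CommRing S] [Algebra R S] : Type u := ∀ n i, WithConv (Φ.B n →ₐ[R] Q S p i)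

variable {Φ} in
/-- compatibility of the points of index `(n, i)` with `n = j + i`. -/
def Compat {S : Type u} [CommRing S] [Algebra R S] (j : ℕ) (x : Fam Φ S) : Prop :=
  ∀ n i, n = j + i → qc (Φ.B (n + 1)) (tr R S p i) (x (n + 1) (i + 1)) = pc (Φ.res n) (Q S p i) (x n i)

variable {Φ} in
/-- multiplication by `p`. -/
noncomputable def dn {S : Type u} [CommRing S] [Algebra R S] (x : Fam Φ S) : Fam Φ S :=
  fun n i => pc (Φ.inf n) (Q S p i) (x (n + 1) i)

variable {Φ} in
/-- base change -/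
noncomputable def bc (S : Type u) [CommRing S] [Algebra R S] (x : Fam Φ R) : Fam Φ S :=
  fun n i => qc (Φ.B n) (Qmap R S p i) (x n i)

variable {Φ} in
/-- triviality of all characters. -/
def Triv {S : Type u} [CommRing S] [Algebra R S] (j : ℕ) (x : Fam Φ S) : Prop :=
  ∀ n i, n = j + i → ∀ w : WithConv (D R (Φ.B n) →ₐ[R] S),
    pr (Φ.B n) (x n i).ofConv.toLinearMap (qc _ (Qmk R S p i) w).ofConv.toLinearMap = 1

variable {Φ}
variable {S : Type u} [CommRing S] [Algebra R S]

theorem Compat.mul {j : ℕ} {x y : Fam Φ S} (hx : Compat j x) (hy : Compat j y) : Compat j (x * y) := by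
  intro n i hn
  rw [Pi.mul_apply, Pi.mul_apply, Pi.mul_apply, Pi.mul_apply, map_mul, map_mul, hx n i hn, hy n i hn]

theorem Compat.inv {j : ℕ} {x : Fam Φ S} (hx : Compat j x) : Compat j x⁻¹ := by
  intro n i hn
  rw [Pi.inv_apply, Pi.inv_apply, Pi.inv_apply, Pi.inv_apply, map_inv, map_inv, hx n i hn]

theorem pr_inv_eq_one {B : Type u} [CommRing B] [HopfAlgebra R B] [Coalgebra.IsCocomm R B]
    [Module.Finite R B] [Module.Free R B] {T : Type u} [CommRing T] [Algebra R T] (x : WithConv (B →ₐ[R] T))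
    (w : WithConv (D R B →ₐ[R] T)) (hx : pr B x.ofConv.toLinearMap w.ofConv.toLinearMap = 1) :
    pr B x⁻¹.ofConv.toLinearMap w.ofConv.toLinearMap = 1 := by
  have h1 := pr_mul_left x x⁻¹ w
  rw [mul_inv_cancel, hx, one_mul] at h1
  rw [← h1]
  exact pr_one_left w.ofConv

theorem Triv.mul {j : ℕ} {x y : Fam Φ S} (hx : Triv j x) (hy : Triv j y) : Triv j (x * y) := by
  intro n i hn w
  rw [Pi.mul_apply, Pi.mul_apply, pr_mul_left, hx n i hn w, hy n i hn w, one_mul]

theorem Triv.inv {j : ℕ} {x : Fam Φ S} (hx : Triv j x) : Triv j x⁻¹ := by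
  intro n i hn w
  rw [Pi.inv_apply, Pi.inv_apply]
  exact pr_inv_eq_one _ _ (hx n i hn w)

theorem bc_mul (x y : Fam Φ R) : bc S (x * y) = bc S x * bc S y := by
  funext n i
  exact map_mul (qc (Φ.B n) (Qmap R S p i)) (x n i) (y n i)

theorem bc_inv (x : Fam Φ R) : bc S x⁻¹ = (bc S x)⁻¹ := by
  funext n i
  exact map_inv (qc (Φ.B n) (Qmap R S p i)) (x n i)

theorem Compat.bc {j : ℕ} {x : Fam Φ R} (hx : Compat j x) : Compat j (bc S x) := by
  intro n i hn
  have h1 := hx n i hn
  apply WithConv.ext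
  apply AlgHom.ext
  intro b
  have h2 : tr R R p i ((x (n + 1) (i + 1)).ofConv b) = (x n i).ofConv (Φ.res n b) :=
    congrArg (fun f : WithConv (Φ.B (n + 1) →ₐ[R] Q R p i) => f.ofConv b) h1
  change tr R S p i (Qmap R S p (i + 1) ((x (n + 1) (i + 1)).ofConv b)) = Qmap R S p i ((x n i).ofConv (Φ.res n b))
  rw [tr_Qmap, h2]

theorem dn_mul (x y : Fam Φ S) : dn (x * y) = dn x * dn y := by
  funext n i
  exact map_mul (pc (Φ.inf n) (Q S p i)) (x (n + 1) i) (y (n + 1) i)

theorem dn_inv (x : Fam Φ S) : dn x⁻¹ = (dn x)⁻¹ := by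
  funext n i
  exact map_inv (pc (Φ.inf n) (Q S p i)) (x (n + 1) i)

theorem dn_bc (x : Fam Φ R) : dn (bc S x) = bc S (dn x) := rfl

theorem exists_fam (q : ℕ) (f : ∀ i, WithConv (Φ.B (q + i + 1) →ₐ[R] Q S p i)) :
    ∃ x : Fam Φ S, ∀ i, x (q + i + 1) i = f i := by
  classical
  refine ⟨fun n i => if h : n = q + i + 1 then h ▸ f i else 1, fun i => by simp⟩

section Pow

variable {B B' : Type u} [CommRing B] [HopfAlgebra R B] [Coalgebra.IsCocomm R B] [CommRing B'] [HopfAlgebra R B']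
  [Coalgebra.IsCocomm R B']

theorem comp_pow_id (x : WithConv (B →ₐ[R] S)) (k : ℕ) :
    x ^ k = WithConv.toConv (x.ofConv.comp (((WithConv.toConv (BialgHom.id R B)) ^ k).ofConv : B →ₐ[R] B)) := by
  induction k with
  | zero =>
    rw [pow_zero, pow_zero]
    apply WithConv.ext
    apply AlgHom.ext
    intro b
    change algebraMap R S (Coalgebra.counit b) = x.ofConv (algebraMap R B (Coalgebra.counit b))
    rw [AlgHom.commutes]
  | succ k ih =>
    rw [pow_succ, ih, pow_succ]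
    have h1 := AlgHom.comp_convMul_distrib (R := R) x.ofConv
      (WithConv.toConv ((((WithConv.toConv (BialgHom.id R B)) ^ k).ofConv : B →ₐc[R] B) : B →ₐ[R] B))
      (WithConv.toConv (AlgHom.id R B))
    apply WithConv.ext
    exact h1.symm

end Pow

theorem pow_p (n : ℕ) (x : WithConv (Φ.B (n + 1) →ₐ[R] S)) :
    x ^ p = pc (Φ.res n) S (pc (Φ.inf n) S x) := by
  rw [comp_pow_id]
  have h1 := Φ.inf_res n
  rw [← h1]
  rfl

end Fam

end K144.Tate
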