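import Groth.Agent.SGA7.K144.Fam
import Groth.Agent.SGA7.K144.Tower

/-!
# The fibre of multiplication by `p` over a compatible family of points
-/

set_option autoImplicit false
set_option linter.unusedSectionVars false
universe u v

open TensorProduct CartDual K564.Tate

namespace K144.Tate

section Ker

variable {R : Type u} [CommRing R] [IsDomain R] [IsDiscreteValuationRing R] {p h : ℕ} [Fact p.Prime] (Φ : Sys R p h)

/-- the ideal of the fibre of `p : G_(n+1) → G_n` over a point of `G_n` with values in `R / p^i`. -/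
noncomputable def Jd (n i : ℕ) (g : Φ.B n →ₐ[R] Q R p i) : Ideal (Φ.B (n + 1)) := (RingHom.ker g).map (Φ.inf n)

variable {Φ}

theorem Q_surj {S : Type u} [CommRing S] [Algebra R S] (i : ℕ) (g : S →ₐ[R] Q R p i) (y : Q R p i) :
    ∃ r : R, y = Ideal.Quotient.mk _ r ∧ g (algebraMap R S r) = y := by
  obtain ⟨r, rfl⟩ := Ideal.Quotient.mk_surjective y
  exact ⟨r, rfl, g.commutes r⟩

theorem tr_eq_zero (i : ℕ) (y : Q R p (i + 1)) (hy : tr R R p i y = 0) :
    ∃ r : R, y = Ideal.Quotient.mk _ ((p : R) ^ i * r) := by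
  obtain ⟨r, rfl⟩ := Ideal.Quotient.mk_surjective y
  rw [tr_mk, Ideal.Quotient.eq_zero_iff_mem, Ideal.mem_span_singleton] at hy
  obtain ⟨c, rfl⟩ := hy
  exact ⟨c, rfl⟩

theorem comap_ker (n i : ℕ) (g : Φ.B n →ₐ[R] Q R p i) (g' : Φ.B (n + 1) →ₐ[R] Q R p (i + 1))
    (hc : ∀ b, tr R R p i (g' b) = g (Φ.res n b)) :
    (RingHom.ker g).comap (Φ.res n) = RingHom.ker g' ⊔ Ideal.span {(p : Φ.B (n + 1)) ^ i} := by
  apply le_antisymm
  · intro b hb
    rw [Ideal.mem_comap, RingHom.mem_ker] at hb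
    obtain ⟨r, hr⟩ := tr_eq_zero i (g' b) (by rw [hc]; exact hb)
    have h1 : g' (b - (p : Φ.B (n + 1)) ^ i * algebraMap R _ r) = 0 := by
      rw [map_sub, map_mul, map_pow, map_natCast, AlgHom.commutes, hr, sub_eq_zero]
      rw [map_mul, map_pow, map_natCast]
      rfl
    rw [← sub_add_cancel b ((p : Φ.B (n + 1)) ^ i * algebraMap R _ r)]
    exact Submodule.add_mem_sup h1 (Ideal.mul_mem_right _ _ (Ideal.mem_span_singleton_self _))
  · rw [sup_le_iff, Ideal.span_singleton_le_iff_mem]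
    constructor
    · intro b hb
      rw [Ideal.mem_comap, RingHom.mem_ker]
      change g (Φ.res n b) = 0
      rw [← hc, show g' b = 0 from hb, map_zero]
    · rw [Ideal.mem_comap, RingHom.mem_ker]
      change g (Φ.res n ((p : Φ.B (n + 1)) ^ i)) = 0
      rw [map_pow, map_natCast, map_pow, map_natCast]
      have : ((p : R) ^ i) ∈ Ideal.span {(p : R) ^ i} := Ideal.mem_span_singleton_self _
      have h2 := Ideal.Quotient.eq_zero_iff_mem.2 this
      rw [map_pow, map_natCast] at h2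
      exact h2

theorem comap_Jd (n i : ℕ) (g : Φ.B n →ₐ[R] Q R p i) (g' : Φ.B (n + 1) →ₐ[R] Q R p (i + 1))
    (hc : ∀ b, tr R R p i (g' b) = g (Φ.res n b)) :
    (Jd Φ n i g).comap (Φ.res (n + 1)) = Jd Φ (n + 1) (i + 1) g' ⊔ Ideal.span {(p : Φ.B (n + 2)) ^ i} := by
  have hk := comap_ker n i g g' hc
  have h0 : RingHom.ker (Φ.res n) ≤ (RingHom.ker g).comap (Φ.res n) := by
    intro b hb
    rw [Ideal.mem_comap, RingHom.mem_ker]
    change g (Φ.res n b) = 0
    rw [show Φ.res n b = 0 from hb, map_zero]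
  obtain ⟨I', hI'⟩ : ∃ I', I' = (RingHom.ker g).comap (Φ.res n) := ⟨_, rfl⟩
  have h1 : RingHom.ker g = I'.map (Φ.res n) := by
    rw [hI', Ideal.map_comap_of_surjective _ (Φ.res_surj n)]
  have h2 : Jd Φ n i g = (I'.map (Φ.inf (n + 1))).map (Φ.res (n + 1)) := by
    have e1 : (I'.map (Φ.res n)).map (Φ.inf n) =
        I'.map ((Φ.inf n : Φ.B n →+* Φ.B (n + 1)).comp (Φ.res n : Φ.B (n + 1) →+* Φ.B n)) :=
      Ideal.map_map (Φ.res n : Φ.B (n + 1) →+* Φ.B n) (Φ.inf n : Φ.B n →+* Φ.B (n + 1))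
    have e2 : (I'.map (Φ.inf (n + 1))).map (Φ.res (n + 1)) =
        I'.map ((Φ.res (n + 1) : Φ.B (n + 2) →+* Φ.B (n + 1)).comp
          (Φ.inf (n + 1) : Φ.B (n + 1) →+* Φ.B (n + 2))) :=
      Ideal.map_map (Φ.inf (n + 1) : Φ.B (n + 1) →+* Φ.B (n + 2)) (Φ.res (n + 1) : Φ.B (n + 2) →+* Φ.B (n + 1))
    rw [Jd, h1, e1, e2]
    congr 1
    apply RingHom.ext
    intro b
    exact (res_inf_eq_inf_res Φ n b).symm
  rw [h2, Ideal.comap_map_of_surjective _ (Φ.res_surj (n + 1))]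
  have h3 : (⊥ : Ideal (Φ.B (n + 1))).comap (Φ.res (n + 1)) = RingHom.ker (Φ.res (n + 1)) := rfl
  rw [h3, ker_res_succ, ← Ideal.map_sup, sup_eq_left.2 (by rw [hI']; exact h0), hI', hk, Ideal.map_sup,
    Ideal.map_span, Set.image_singleton]
  rw [Jd, map_pow, map_natCast]

theorem quot_basis (n i : ℕ) (g : Φ.B n →ₐ[R] Q R p i) :
    ∃ v : Fin (p ^ h) → Φ.B (n + 1) ⧸ Jd Φ n i g, (∀ y, ∃ a : Fin (p ^ h) → R, y = ∑ l, a l • v l) ∧
    ∀ a : Fin (p ^ h) → R, ∑ l, a l • v l = 0 → ∀ l, (p : R) ^ i ∣ a l := by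
  obtain ⟨v, hv⟩ := exists_basis Φ n
  refine ⟨fun l => Ideal.Quotient.mk _ (v l), ?_, ?_⟩
  · intro y
    obtain ⟨b, rfl⟩ := Ideal.Quotient.mk_surjective y
    obtain ⟨a, rfl⟩ := hv.2 b
    choose r hr hr' using fun l => Q_surj i g (g (a l))
    refine ⟨r, ?_⟩
    change (Ideal.Quotient.mk (Jd Φ n i g)) (∑ l, Φ.inf n (a l) * v l) = _
    rw [map_sum]
    refine Finset.sum_congr rfl fun l _ => ?_
    have h1 : (Ideal.Quotient.mk (Jd Φ n i g)) (Φ.inf n (a l)) = algebraMap R _ (r l) := by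
      have h2 : a l - algebraMap R _ (r l) ∈ RingHom.ker g := by
        rw [RingHom.mem_ker, map_sub, hr' l, sub_self]
      have h3 : Φ.inf n (a l - algebraMap R _ (r l)) ∈ Jd Φ n i g := Ideal.mem_map_of_mem _ h2
      rw [← Ideal.Quotient.eq_zero_iff_mem, map_sub, map_sub, sub_eq_zero] at h3
      rw [h3, AlgHomClass.commutes]
      rfl
    rw [map_mul, h1, Algebra.smul_def]
  · intro a ha l
    have h1 : (∑ l, Φ.inf n (algebraMap R _ (a l)) * v l) ∈ Jd Φ n i g := by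
      rw [← Ideal.Quotient.eq_zero_iff_mem, map_sum, ← ha]
      refine Finset.sum_congr rfl fun l _ => ?_
      rw [map_mul, AlgHomClass.commutes, Algebra.smul_def]
      rfl
    have h2 := (mem_map_iff (Φ.inf n : Φ.B n →+* Φ.B (n + 1)) v hv _ (fun l => algebraMap R _ (a l))).1 h1 l
    rw [RingHom.mem_ker, AlgHom.commutes] at h2
    have h3 : Ideal.Quotient.mk (Ideal.span {(p : R) ^ i}) (a l) = 0 := h2
    rwa [Ideal.Quotient.eq_zero_iff_mem, Ideal.mem_span_singleton] at h3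

theorem Jd_kill (n i : ℕ) (g : Φ.B n →ₐ[R] Q R p i) (x : Φ.B (n + 1) ⧸ Jd Φ n i g) : (p : R) ^ i • x = 0 := by
  obtain ⟨b, rfl⟩ := Ideal.Quotient.mk_surjective x
  have h1 : algebraMap R (Φ.B n) ((p : R) ^ i) ∈ RingHom.ker g := by
    rw [RingHom.mem_ker, AlgHom.commutes]
    exact Ideal.Quotient.eq_zero_iff_mem.2 (Ideal.mem_span_singleton_self _)
  have h2 : Φ.inf n (algebraMap R (Φ.B n) ((p : R) ^ i)) ∈ Jd Φ n i g := Ideal.mem_map_of_mem _ h1
  rw [AlgHomClass.commutes, ← Ideal.Quotient.eq_zero_iff_mem] at h2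
  rw [Algebra.smul_def]
  have h3 : algebraMap R (Φ.B (n + 1) ⧸ Jd Φ n i g) ((p : R) ^ i) = 0 := h2
  rw [h3, zero_mul]

variable (Φ)

theorem Jd_le (q : ℕ) (g : Fam Φ R) (hc : Compat q g) (i : ℕ) :
    Jd Φ (q + i + 1) (i + 1) (g (q + i + 1) (i + 1)).ofConv ≤ (Jd Φ (q + i) i (g (q + i) i).ofConv).comap
      ((Φ.res (q + i + 1) : Φ.B (q + i + 2) →ₐ[R] Φ.B (q + i + 1)) : Φ.B (q + i + 2) →+* Φ.B (q + i + 1)) := by
  have h1 := comap_Jd (q + i) i (g (q + i) i).ofConv (g (q + i + 1) (i + 1)).ofConv (fun b =>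
    congrArg (fun f : WithConv (Φ.B (q + i + 1) →ₐ[R] Q R p i) => f.ofConv b) (hc (q + i) i rfl))
  have h2 : Jd Φ (q + i + 1) (i + 1) (g (q + i + 1) (i + 1)).ofConv ≤
      (Jd Φ (q + i) i (g (q + i) i).ofConv).comap (Φ.res (q + i + 1)) := by
    rw [h1]; exact le_sup_left
  exact h2

/-- the tower of the fibres over a compatible family. -/
noncomputable def tower (q : ℕ) (g : Fam Φ R) (hc : Compat q g) : Tower R (p : R) (p ^ h) where
  P i := Φ.B (q + i + 1) ⧸ Jd Φ (q + i) i (g (q + i) i).ofConv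
  φ i := Ideal.quotientMapₐ (Jd Φ (q + i) i (g (q + i) i).ofConv)
    (Φ.res (q + i + 1) : Φ.B (q + i + 2) →ₐ[R] Φ.B (q + i + 1)) (Jd_le Φ q g hc i)
  φ_surj i := by
    intro y
    obtain ⟨b, rfl⟩ := Ideal.Quotient.mk_surjective y
    obtain ⟨a, rfl⟩ := Φ.res_surj (q + i + 1) b
    exact ⟨Ideal.Quotient.mk _ a, rfl⟩
  φ_ker i x hx := by
    obtain ⟨b, rfl⟩ := Ideal.Quotient.mk_surjective x
    have h0 : Ideal.Quotient.mk (Jd Φ (q + i) i (g (q + i) i).ofConv) (Φ.res (q + i + 1) b) = 0 := hx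
    rw [Ideal.Quotient.eq_zero_iff_mem] at h0
    have h1 := comap_Jd (q + i) i (g (q + i) i).ofConv (g (q + i + 1) (i + 1)).ofConv (fun b =>
      congrArg (fun f : WithConv (Φ.B (q + i + 1) →ₐ[R] Q R p i) => f.ofConv b) (hc (q + i) i rfl))
    have h2 : b ∈ (Jd Φ (q + i) i (g (q + i) i).ofConv).comap (Φ.res (q + i + 1)) := h0
    rw [h1, Submodule.mem_sup] at h2
    obtain ⟨c, hc', d, hd, rfl⟩ := h2
    rw [Ideal.mem_span_singleton] at hd
    obtain ⟨e, rfl⟩ := hd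
    refine ⟨Ideal.Quotient.mk _ e, ?_⟩
    have h5 : Ideal.Quotient.mk (Jd Φ (q + (i + 1)) (i + 1) (g (q + (i + 1)) (i + 1)).ofConv) c = 0 :=
      Ideal.Quotient.eq_zero_iff_mem.2 hc'
    rw [map_add, h5, zero_add, map_mul, Algebra.smul_def]
    congr 1
    rw [map_pow, map_natCast, map_pow, map_natCast]
  kill i x := Jd_kill _ _ _ x
  basis i := quot_basis _ _ _

/-- the projection of the layer to the fibre. -/
noncomputable def toP (q : ℕ) (g : Fam Φ R) (hc : Compat q g) (i : ℕ) : Φ.B (q + i + 1) →ₐ[R] (tower Φ q g hc).P i :=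
  Ideal.Quotient.mkₐ R (Jd Φ (q + i) i (g (q + i) i).ofConv)

theorem toP_surj (q : ℕ) (g : Fam Φ R) (hc : Compat q g) (i : ℕ) : Function.Surjective (toP Φ q g hc i) :=
  Ideal.Quotient.mk_surjective

theorem φ_toP (q : ℕ) (g : Fam Φ R) (hc : Compat q g) (i : ℕ) (b : Φ.B (q + i + 2)) :
    (tower Φ q g hc).φ i (toP Φ q g hc (i + 1) b) = toP Φ q g hc i (Φ.res (q + i + 1) b) := rfl

theorem toP_eq_zero (q : ℕ) (g : Fam Φ R) (hc : Compat q g) (i : ℕ) (b : Φ.B (q + i + 1)) :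
    toP Φ q g hc i b = 0 ↔ b ∈ Jd Φ (q + i) i (g (q + i) i).ofConv := Ideal.Quotient.eq_zero_iff_mem

end Ker

section Points

variable {R : Type u} [CommRing R] [IsDomain R] [IsDiscreteValuationRing R] {p h : ℕ} [Fact p.Prime] (Φ : Sys R p h)

/-- the points of the fibre of `p` over a compatible family of points over `R`. -/
theorem exists_fibre (hlim : ∀ f : ℕ → R, (∀ i, (p : R) ^ i ∣ f (i + 1) - f i) → ∃ L, ∀ i, (p : R) ^ i ∣ L - f i)
    (hh : ∀ x : R, (∀ i, (p : R) ^ i ∣ x) → x = 0) (q : ℕ) (g : Fam Φ R) (hc : Compat q g) :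
    ∃ (D : Type u) (_ : CommRing D) (_ : Algebra R D), Nonempty ((Fin (p ^ h) → R) ≃ₗ[R] D) ∧
    (∀ (S : Type u) [CommRing S] [Algebra R S] (_ : D →ₐ[R] S), ∃ x' : Fam Φ S, Compat (q + 1) x' ∧
      ∀ n i, n = q + i → dn x' n i = bc S g n i) ∧
    (∀ (S : Type u) [CommRing S] [Algebra R S] (x' : Fam Φ S), Compat (q + 1) x' →
      (∀ n i, n = q + i → dn x' n i = bc S g n i) → ∃ x : D →ₐ[R] Lm R S p,
      (∀ n i, n = q + i → ∀ b : Φ.B (n + 1), ∃ d : D, (x' (n + 1) i).ofConv b = (x d).1 i) ∧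
      ∀ n i, n = q + i → ∀ d : D, ∃ b : Φ.B (n + 1), (x d).1 i = (x' (n + 1) i).ofConv b) := by
  obtain ⟨he, hker⟩ := (tower Φ q g hc).main hlim hh
  refine ⟨(tower Φ q g hc).D, inferInstance, inferInstance, he, ?_, ?_⟩
  · intro S _ _ x
    have h1 : ∀ i, ∃ k : (tower Φ q g hc).P i →ₐ[R] Q S p i, ∀ d, k ((tower Φ q g hc).π i d) = Qmk R S p i (x d) := by
      intro i
      refine exists_algHom_of_surj ((tower Φ q g hc).π i) ((tower Φ q g hc).π_surj i) ((Qmk R S p i).comp x) ?_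
      intro d hd
      obtain ⟨d', rfl⟩ := hker i d hd
      rw [AlgHom.comp_apply, map_smul, Qmk_apply, Ideal.Quotient.eq_zero_iff_mem, Ideal.mem_span_singleton,
        Algebra.smul_def, map_pow, map_natCast]
      exact dvd_mul_right _ _
    choose k hk using h1
    obtain ⟨x', hx'⟩ := exists_fam (Φ := Φ) (S := S) q (fun i => WithConv.toConv ((k i).comp (toP Φ q g hc i)))
    have hx : ∀ i b, (x' (q + i + 1) i).ofConv b = k i (toP Φ q g hc i b) := by
      intro i b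
      rw [hx']
      rfl
    refine ⟨x', ?_, ?_⟩
    · intro n i hn
      obtain rfl : n = q + i + 1 := by omega
      apply WithConv.ext
      apply AlgHom.ext
      intro b
      rw [qc_apply, pc_apply, hx]
      have h2 := hx (i + 1) b
      have h3 : (x' (q + i + 1 + 1) (i + 1)).ofConv b = k (i + 1) (toP Φ q g hc (i + 1) b) := h2
      rw [h3]
      obtain ⟨d, hd⟩ := (tower Φ q g hc).π_surj (i + 1) (toP Φ q g hc (i + 1) b)
      rw [← hd, hk, tr_Qmk, ← φ_toP, ← hd, Tower.φ_π, hk]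
    · intro n i hn
      subst hn
      apply WithConv.ext
      apply AlgHom.ext
      intro b
      change (x' (q + i + 1) i).ofConv (Φ.inf (q + i) b) = Qmap R S p i ((g (q + i) i).ofConv b)
      rw [hx]
      obtain ⟨r, hr, hr'⟩ := Q_surj i (g (q + i) i).ofConv ((g (q + i) i).ofConv b)
      have h4 : toP Φ q g hc i (Φ.inf (q + i) b) = algebraMap R _ r := by
        rw [← (toP Φ q g hc i).commutes, ← sub_eq_zero, ← map_sub, toP_eq_zero]
        have h5 : b - algebraMap R _ r ∈ RingHom.ker (g (q + i) i).ofConv := by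
          rw [RingHom.mem_ker, map_sub, hr', sub_self]
        have h6 : Φ.inf (q + i) (b - algebraMap R _ r) ∈ Jd Φ (q + i) i (g (q + i) i).ofConv :=
          Ideal.mem_map_of_mem _ h5
        rw [map_sub, AlgHomClass.commutes] at h6
        exact h6
      rw [h4, AlgHom.commutes, hr, Qmap_mk]
      rfl
  · intro S _ _ x' hx' hx''
    have h1 : ∀ i b, toP Φ q g hc i b = 0 → (x' (q + i + 1) i).ofConv b = 0 := by
      intro i b hb
      rw [toP_eq_zero] at hb
      have h2 : Jd Φ (q + i) i (g (q + i) i).ofConv ≤ RingHom.ker (x' (q + i + 1) i).ofConv := by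
        rw [Jd, Ideal.map_le_iff_le_comap]
        intro a ha
        rw [Ideal.mem_comap, RingHom.mem_ker]
        have h3 := congrArg (fun f : WithConv (Φ.B (q + i) →ₐ[R] Q S p i) => f.ofConv a) (hx'' (q + i) i rfl)
        have h4 : (x' (q + i + 1) i).ofConv (Φ.inf (q + i) a) = Qmap R S p i ((g (q + i) i).ofConv a) := h3
        rw [h4, show (g (q + i) i).ofConv a = 0 from ha, map_zero]
      exact h2 hb
    choose k hk using fun i => exists_algHom_of_surj (toP Φ q g hc i) (toP_surj Φ q g hc i)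
      (x' (q + i + 1) i).ofConv (h1 i)
    have hcomp : ∀ i y, tr R S p i (k (i + 1) y) = k i ((tower Φ q g hc).φ i y) := by
      intro i y
      obtain ⟨b, rfl⟩ := toP_surj Φ q g hc (i + 1) y
      rw [φ_toP, hk, hk]
      exact congrArg (fun f : WithConv (Φ.B (q + i + 1 + 1) →ₐ[R] Q S p i) => f.ofConv b)
        (hx' (q + i + 1) i (by omega))
    obtain ⟨x, hx⟩ : ∃ x : (tower Φ q g hc).D →ₐ[R] Lm R S p, ∀ d i, (x d).1 i = k i ((tower Φ q g hc).π i d) := by
      refine ⟨(AlgHom.codRestrict (AlgHom.pi fun i => (k i).comp ((tower Φ q g hc).π i)) (Lm R S p) ?_), fun d i => rfl⟩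
      intro d i
      change tr R S p i (k (i + 1) ((tower Φ q g hc).π (i + 1) d)) = k i ((tower Φ q g hc).π i d)
      rw [hcomp, Tower.φ_π]
    refine ⟨x, ?_, ?_⟩
    · intro n i hn b
      subst hn
      obtain ⟨d, hd⟩ := (tower Φ q g hc).π_surj i (toP Φ q g hc i b)
      refine ⟨d, ?_⟩
      rw [hx, hd, hk]
    · intro n i hn d
      subst hn
      obtain ⟨b, hb⟩ := toP_surj Φ q g hc i ((tower Φ q g hc).π i d)
      refine ⟨b, ?_⟩
      rw [hx, ← hb, hk]

end Points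

end K144.Tate
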