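import Groth.Agent.SGA7.K144.NInj
import Groth.Agent.SGA7.K751.Bas
import Groth.Agent.SGA7.K497.TrNodes
import Groth.Agent.SGA7.K497.TrMul
import Groth.Agent.SGA7.K497.Layers
import Groth.Agent.SGA7.K497.LieRank
import Groth.Agent.SGA7.K565.NDimM
import Groth.Agent.SGA7.K411.GraphE

/-!
# Tate's theorem on homomorphisms of Barsotti-Tate systems: assembly of the nodes
-/

set_option autoImplicit false
universe u

namespace K144.Tate

/-- (III). -/
theorem nInj : K564.Tate.NInj.{u} := main K751.Bas.main

/-- (IV). -/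
theorem nDim : K564.Tate.NDim.{u} :=
  K565.NDimM.main K497.TrNodes.nDual K497.LieRank.nLie nInj K751.Bas.main

/-- (V), Tate's theorem. -/
theorem nFull : K564.Tate.NFull.{u} :=
  K411.Tate.main K497.TrMul.nMul K497.TrNodes.nLe K497.TrNodes.nEq K497.Layers.nPow nDim

end K144.Tate
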