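import Groth.Agent.SGA7.K144.Div
import Groth.Agent.SGA7.K144.ExpFam
import Groth.Agent.SGA7.K564.Tate.Iface
import Groth.Agent.AdicRing.K26.ComplVal

/-!
# Node (III) of Tate's theorem: an element of the Lie algebra vanishing at all characters is zero
-/

set_option autoImplicit false
set_option linter.unusedSectionVars false
universe u v

open TensorProduct CartDual K564.Tate

namespace K144.Tate

section Limit

variable {R : Type u} [CommRing R] [IsDomain R] [IsDiscreteValuationRing R]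
  [IsAdicComplete (IsLocalRing.maximalIdeal R) R]

theorem exists_ram (x : R) (hx : x ≠ 0) : ∃ e : ℕ, Ideal.span {x} = IsLocalRing.maximalIdeal R ^ e := by
  obtain ⟨ϖ, hϖ⟩ := IsDiscreteValuationRing.exists_irreducible R
  obtain ⟨n, hn⟩ := IsDiscreteValuationRing.ideal_eq_span_pow_irreducible (s := Ideal.span {x}) (by
    rwa [Ne, Ideal.span_singleton_eq_bot]) hϖ
  exact ⟨n, by rw [hn, hϖ.maximalIdeal_eq, Ideal.span_singleton_pow]⟩

theorem haus (x : R) (hx : x ∈ IsLocalRing.maximalIdeal R) (y : R) (hy : ∀ i, x ^ i ∣ y) : y = 0 := by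
  refine IsHausdorff.haus' (I := IsLocalRing.maximalIdeal R) y fun n => ?_
  rw [SModEq.zero, smul_eq_mul, Ideal.mul_top]
  obtain ⟨c, hc⟩ := hy n
  rw [hc]
  exact Ideal.mul_mem_right _ _ (Ideal.pow_mem_pow hx n)

theorem lim (x : R) (hx : x ∈ IsLocalRing.maximalIdeal R) (hx0 : x ≠ 0) (f : ℕ → R)
    (hf : ∀ i, x ^ i ∣ f (i + 1) - f i) : ∃ L, ∀ i, x ^ i ∣ L - f i := by
  have hf' : ∀ i n, i ≤ n → x ^ i ∣ f n - f i := by
    intro i n hn
    induction n, hn using Nat.le_induction with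
    | base => rw [sub_self]; exact dvd_zero _
    | succ n hn ih =>
      have : f (n + 1) - f i = (f (n + 1) - f n) + (f n - f i) := by ring
      rw [this]
      exact dvd_add ((pow_dvd_pow _ hn).trans (hf n)) ih
  obtain ⟨L, hL⟩ := IsPrecomplete.prec' (I := IsLocalRing.maximalIdeal R) f (fun {m n} hmn => by
    rw [SModEq.sub_mem, smul_eq_mul, Ideal.mul_top]
    obtain ⟨c, hc⟩ := hf' m n hmn
    have : f m - f n = x ^ m * (-c) := by rw [mul_neg, ← hc]; ring
    rw [this]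
    exact Ideal.mul_mem_right _ _ (Ideal.pow_mem_pow hx m))
  obtain ⟨e, he⟩ := exists_ram x hx0
  refine ⟨L, fun i => ?_⟩
  have h1 := hL (i + e * i)
  rw [SModEq.sub_mem, smul_eq_mul, Ideal.mul_top] at h1
  have h2 : f (i + e * i) - L ∈ Ideal.span {x ^ i} := by
    rw [← Ideal.span_singleton_pow, he, ← pow_mul]
    exact Ideal.pow_le_pow_right (by omega) h1
  rw [Ideal.mem_span_singleton] at h2
  have h3 := hf' i (i + e * i) (by omega)
  have h4 := dvd_sub h3 h2
  have h5 : f (i + e * i) - f i - (f (i + e * i) - L) = L - f i := by ring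
  rwa [h5] at h4

end Limit

section Raise

variable {R : Type u} [CommRing R] {B : Type u} [CommRing B] [HopfAlgebra R B] [Coalgebra.IsCocomm R B]
  {S : Type u} [CommRing S] [Algebra R S]

theorem conv_mem (I : Ideal S) (u v : WithConv (B →ₗ[R] S)) (hu : ∀ b, u b ∈ I) (hv : ∀ b, v b ∈ I) (b : B) :
    (u * v) b ∈ I ^ 2 := by
  rw [LinearMap.convMul_def]
  change LinearMap.mul' R S (TensorProduct.map u.ofConv v.ofConv (Coalgebra.comul (R := R) b)) ∈ I ^ 2
  generalize Coalgebra.comul (R := R) b = y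
  induction y with
  | zero => rw [map_zero, map_zero]; exact Ideal.zero_mem _
  | add x y hx hy => rw [map_add, map_add]; exact Ideal.add_mem _ hx hy
  | tmul a c =>
    rw [TensorProduct.map_tmul, LinearMap.mul'_apply, pow_two]
    exact Ideal.mul_mem_mul (hu a) (hv c)

/-- points close to the unit add modulo squares. -/
theorem pt_add (I : Ideal S) (x y : WithConv (B →ₐ[R] S))
    (hx : ∀ b, Coalgebra.counit (R := R) b = 0 → x.ofConv b ∈ I)
    (hy : ∀ b, Coalgebra.counit (R := R) b = 0 → y.ofConv b ∈ I) (b : B) (hb : Coalgebra.counit (R := R) b = 0) :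
    (x * y).ofConv b - (x.ofConv b + y.ofConv b) ∈ I ^ 2 := by
  have key : ∀ x : WithConv (B →ₐ[R] S), (∀ b, Coalgebra.counit (R := R) b = 0 → x.ofConv b ∈ I) →
      ∀ b, (WithConv.toConv x.ofConv.toLinearMap - 1 : WithConv (B →ₗ[R] S)) b ∈ I := by
    intro x hx b
    have h1 : (WithConv.toConv x.ofConv.toLinearMap - 1 : WithConv (B →ₗ[R] S)) b =
        x.ofConv (b - algebraMap R B (Coalgebra.counit (R := R) b)) := by
      rw [map_sub, AlgHom.commutes]
      change x.ofConv b - (1 : WithConv (B →ₗ[R] S)) b = _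
      rw [LinearMap.convOne_apply]
    rw [h1]
    apply hx
    rw [map_sub, Bialgebra.counit_algebraMap, sub_self]
  have h2 := conv_mem I _ _ (key x hx) (key y hy) b
  have h3 : (WithConv.toConv x.ofConv.toLinearMap - 1) * (WithConv.toConv y.ofConv.toLinearMap - 1) =
      WithConv.toConv (x * y).ofConv.toLinearMap -
      (WithConv.toConv x.ofConv.toLinearMap + WithConv.toConv y.ofConv.toLinearMap) + 1 := by
    have := AlgHom.toLinearMap_convMul x y
    rw [this]
    noncomm_ring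
  rw [h3] at h2
  have h4 : (WithConv.toConv (x * y).ofConv.toLinearMap -
      (WithConv.toConv x.ofConv.toLinearMap + WithConv.toConv y.ofConv.toLinearMap) + 1 : WithConv (B →ₗ[R] S)) b =
      (x * y).ofConv b - (x.ofConv b + y.ofConv b) + (1 : WithConv (B →ₗ[R] S)) b := rfl
  rw [h4, LinearMap.convOne_apply, hb, map_zero, add_zero] at h2
  exact h2

theorem pt_pow (I : Ideal S) (x : WithConv (B →ₐ[R] S))
    (hx : ∀ b, Coalgebra.counit (R := R) b = 0 → x.ofConv b ∈ I) (k : ℕ) :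
    ∀ b, Coalgebra.counit (R := R) b = 0 → (x ^ k).ofConv b - k * x.ofConv b ∈ I ^ 2 ∧ (x ^ k).ofConv b ∈ I := by
  induction k with
  | zero =>
    intro b hb
    have : (x ^ 0).ofConv b = 0 := by
      rw [pow_zero]
      change algebraMap R S (Coalgebra.counit (R := R) b) = 0
      rw [hb, map_zero]
    rw [this, Nat.cast_zero, zero_mul, sub_zero]
    exact ⟨Ideal.zero_mem _, Ideal.zero_mem _⟩
  | succ k ih =>
    intro b hb
    obtain ⟨h1, h2⟩ := ih b hb
    have h3 := pt_add I (x ^ k) x (fun b hb => (ih b hb).2) hx b hb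
    rw [← pow_succ] at h3
    have h4 : (x ^ (k + 1)).ofConv b - ((k + 1 : ℕ) : S) * x.ofConv b ∈ I ^ 2 := by
      have h5 := Ideal.add_mem _ h3 h1
      have h6 : (x ^ (k + 1)).ofConv b - ((x ^ k).ofConv b + x.ofConv b) + ((x ^ k).ofConv b - k * x.ofConv b) =
          (x ^ (k + 1)).ofConv b - ((k + 1 : ℕ) : S) * x.ofConv b := by
        push_cast; ring
      rwa [h6] at h5
    refine ⟨h4, ?_⟩
    have h7 : (x ^ (k + 1)).ofConv b = ((x ^ (k + 1)).ofConv b - ((k + 1 : ℕ) : S) * x.ofConv b) +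
      ((k + 1 : ℕ) : S) * x.ofConv b := by ring
    rw [h7]
    exact Ideal.add_mem _ (Ideal.pow_le_self two_ne_zero h4) (Ideal.mul_mem_left _ _ (hx b hb))

variable {p h : ℕ} (Φ : Sys R p h)

theorem raise (J : Ideal S) (hp : (p : S) ∈ J) (n s : ℕ) (hs : 1 ≤ s) (x : WithConv (Φ.B (n + 1) →ₐ[R] S))
    (hx : ∀ b, Coalgebra.counit (R := R) b = 0 → x.ofConv b ∈ J ^ s) (a : Φ.B n)
    (ha : Coalgebra.counit (R := R) a = 0) : (pc (Φ.inf n) S x).ofConv a ∈ J ^ (s + 1) := by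
  obtain ⟨b, rfl⟩ := Φ.res_surj n a
  rw [counit_res] at ha
  have h1 := (pt_pow (J ^ s) x hx p b ha).1
  rw [pow_p] at h1
  have h2 : (pc (Φ.res n) S (pc (Φ.inf n) S x)).ofConv b = (pc (Φ.inf n) S x).ofConv (Φ.res n b) := rfl
  rw [h2, ← pow_mul] at h1
  have h3 : (pc (Φ.inf n) S x).ofConv (Φ.res n b) =
      ((pc (Φ.inf n) S x).ofConv (Φ.res n b) - p * x.ofConv b) + p * x.ofConv b := by ring
  rw [h3]
  refine Ideal.add_mem _ (Ideal.pow_le_pow_right (by omega) h1) ?_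
  rw [pow_succ']
  exact Ideal.mul_mem_mul hp (hx b ha)

end Raise

section Chain

variable {R : Type u} [CommRing R] [IsDomain R] [IsDiscreteValuationRing R] {p h : ℕ} [Fact p.Prime]
  {O : Type u} [CommRing O] [IsDomain O] [ValuationRing O] [Algebra R O] {Φ : Sys R p h}

/-- infinite division by `p`. -/
def Chain (O : Type u) [CommRing O] [Algebra R O] (G : ℕ → Fam Φ R) : Prop :=
  ∀ j, Compat j (G j) ∧ Triv j (bc O (G j)) ∧ ∀ n i, n = j + i → dn (G (j + 1)) n i = G j n i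

theorem Chain.mul {G G' : ℕ → Fam Φ R} (hG : Chain O G) (hG' : Chain O G') : Chain O (fun j => G j * G' j) := by
  intro j
  obtain ⟨h1, h2, h3⟩ := hG j
  obtain ⟨h1', h2', h3'⟩ := hG' j
  refine ⟨h1.mul h1', ?_, ?_⟩
  · rw [bc_mul]; exact h2.mul h2'
  · intro n i hn
    rw [dn_mul, Pi.mul_apply, Pi.mul_apply, h3 n i hn, h3' n i hn]
    rfl

theorem exists_chain (hG : Good R O)
    (hlim : ∀ f : ℕ → R, (∀ i, (p : R) ^ i ∣ f (i + 1) - f i) → ∃ L, ∀ i, (p : R) ^ i ∣ L - f i)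
    (hh : ∀ x : R, (∀ i, (p : R) ^ i ∣ x) → x = 0) (hpu : ¬ IsUnit (p : O)) (b : Bas Φ O)
    (g : Fam Φ R) (hc : Compat 0 g) (ht : Triv 0 (bc O g)) : ∃ G : ℕ → Fam Φ R, Chain O G ∧ G 0 = g := by
  have step : ∀ (j : ℕ) (g : {g : Fam Φ R // Compat j g ∧ Triv j (bc O g)}),
      ∃ g' : {g : Fam Φ R // Compat (j + 1) g ∧ Triv (j + 1) (bc O g)}, ∀ n i, n = j + i → dn g'.1 n i = g.1 n i := by
    rintro j ⟨g, h1, h2⟩
    obtain ⟨g', h1', h2', h3'⟩ := exists_div hG hlim hh hpu b j g h1 h2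
    exact ⟨⟨g', h1', h2'⟩, h3'⟩
  choose s hs using step
  refine ⟨fun j => (Nat.rec (motive := fun j => {g : Fam Φ R // Compat j g ∧ Triv j (bc O g)}) ⟨g, hc, ht⟩ s j).1, ?_, rfl⟩
  intro j
  exact ⟨(Nat.rec (motive := fun j => {g : Fam Φ R // Compat j g ∧ Triv j (bc O g)}) ⟨g, hc, ht⟩ s j).2.1,
    (Nat.rec (motive := fun j => {g : Fam Φ R // Compat j g ∧ Triv j (bc O g)}) ⟨g, hc, ht⟩ s j).2.2, hs j _⟩

theorem chain_unique (hG : Good R O) (hh : ∀ x : R, (∀ i, (p : R) ^ i ∣ x) → x = 0) (hpu : ¬ IsUnit (p : O))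
    (b : Bas Φ O) {G G' : ℕ → Fam Φ R} (hc : Chain O G) (hc' : Chain O G')
    (h0 : ∀ n i, n = 0 + i → G 0 n i = G' 0 n i) : ∀ j n i, n = j + i → G j n i = G' j n i := by
  intro j
  induction j with
  | zero => exact h0
  | succ j ih =>
    intro n i hn
    obtain ⟨m, rfl⟩ : ∃ m, n = m + 1 := ⟨n - 1, by omega⟩
    refine unique_div hG hh hpu b j (G (j + 1)) (G' (j + 1)) (hc _).1 (hc _).2.1 (hc' _).1 (hc' _).2.1 ?_ m i (by omega)
    intro n i hn
    rw [(hc j).2.2 n i hn, (hc' j).2.2 n i hn, ih n i hn]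

end Chain

section Final

variable {R : Type u} [CommRing R] [IsDomain R] [IsDiscreteValuationRing R] [CharZero R]
  [IsAdicComplete (IsLocalRing.maximalIdeal R) R] [Infinite (IsLocalRing.ResidueField R)]
  {p h : ℕ} [Fact p.Prime] {O : Type u} [CommRing O] [IsDomain O] [ValuationRing O] [Algebra R O] {Φ : Sys R p h}

theorem Ex_four (c : ℕ → R) (n : ℕ) (t : D R (Φ.B n)) (b : Φ.B n) (hb : Coalgebra.counit (R := R) b = 0) :
    (Ex c 4 t : D R (Φ.B n)) b = c 1 * t b + c 2 * (t ^ 2 : D R (Φ.B n)) b + c 3 * (t ^ 3 : D R (Φ.B n)) b := by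
  have h1 : (Ex c 4 t : D R (Φ.B n)) = c 0 • 1 + c 1 • t + c 2 • t ^ 2 + c 3 • t ^ 3 := by
    simp [Ex, Finset.sum_range_succ]
  rw [h1]
  change c 0 * (1 : D R (Φ.B n)) b + c 1 * t b + c 2 * (t ^ 2 : D R (Φ.B n)) b + c 3 * (t ^ 3 : D R (Φ.B n)) b = _
  rw [LinearMap.convOne_apply, hb, map_zero, mul_zero, zero_add]

theorem main_O (hG : Good R O) (hp : (p : R) ∈ IsLocalRing.maximalIdeal R) (b : Bas Φ O)
    (t : ∀ n, Φ.B n →ₗ[R] R) (ht : Φ.IsLie t)
    (hev : ∀ n (w : WithConv (D R (Φ.B n) →ₐ[R] O)), (p : O) ^ n ∣ w.ofConv (WithConv.toConv (t n))) (a : Φ.B 3)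
    (ha : Coalgebra.counit (R := R) a = 0) : t 3 a ∈ IsLocalRing.maximalIdeal R := by
  have hpp : p.Prime := Fact.out
  have hp0 : (p : R) ≠ 0 := Nat.cast_ne_zero.2 hpp.ne_zero
  have hlim := fun f hf => lim (p : R) hp hp0 f hf
  have hh := fun y hy => haus (p : R) hp y hy
  have hpu : ¬ IsUnit (p : O) := by
    intro hu
    have h1 : algebraMap R O (p : R) ∣ algebraMap R O 1 := by
      rw [map_natCast]; exact hu.dvd
    exact (IsLocalRing.mem_maximalIdeal _).1 hp (isUnit_of_dvd_one (hG.dvd _ _ h1))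
  obtain ⟨e, he⟩ := exists_ram (p : R) hp0
  have he0 : e ≠ 0 := by
    rintro rfl
    rw [pow_zero, Ideal.one_eq_top, Ideal.span_singleton_eq_top] at he
    exact (IsLocalRing.mem_maximalIdeal _).1 hp he
  choose c hc hcp using fun lam : R => exists_isExp hp lam
  choose g hg1 hg2 hg3 using fun lam : R => exists_exp (O := O) t ht hev (hc lam) (hcp lam)
  choose G hG1 hG2 using fun lam : R => exists_chain hG hlim hh hpu b (g lam) (hg1 lam) (hg2 lam)
  obtain ⟨π, hπ⟩ : ∃ π : Q R p 3 →ₐ[R] IsLocalRing.ResidueField R, ∀ r : R,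
      π (Ideal.Quotient.mk _ r) = IsLocalRing.residue R r := by
    refine ⟨Ideal.Quotient.liftₐ _ (Algebra.ofId R (IsLocalRing.ResidueField R)) ?_, fun r => rfl⟩
    intro r hr
    rw [Ideal.mem_span_singleton] at hr
    obtain ⟨s, rfl⟩ := hr
    change IsLocalRing.residue R ((p : R) ^ 3 * s) = 0
    rw [IsLocalRing.residue_eq_zero_iff]
    exact Ideal.mul_mem_right _ _ (Ideal.pow_mem_of_mem _ hp 3 (by norm_num))
  choose sec hsec using fun x : IsLocalRing.ResidueField R => IsLocalRing.residue_surjective x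
  obtain ⟨a1, a2, ha12, hρ⟩ := Finite.exists_ne_map_eq_of_infinite
    (fun x : IsLocalRing.ResidueField R => π.comp (G (sec x) (2 * e) (2 * e + 3) 3).ofConv)
  obtain ⟨lam, hlam⟩ : ∃ lam, lam = sec a1 - sec a2 := ⟨_, rfl⟩
  have hlu : lam ∉ IsLocalRing.maximalIdeal R := by
    intro hc
    rw [← IsLocalRing.residue_eq_zero_iff, hlam, map_sub, hsec, hsec, sub_eq_zero] at hc
    exact ha12 hc
  -- additivity
  have hadd : ∀ n i, n = 0 + i → (fun j => G lam j * G (sec a2) j) 0 n i = G (sec a1) 0 n i := by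
    intro n i hn
    obtain rfl : n = i := by omega
    change G lam 0 n n * G (sec a2) 0 n n = G (sec a1) 0 n n
    rw [hG2, hG2, hG2]
    apply WithConv.ext
    apply AlgHom.ext
    intro x
    rw [pt_mul n _ _ _ _ (hg3 lam n) (hg3 (sec a2) n), hg3, Ideal.Quotient.eq, Ideal.mem_span_singleton]
    have hx : (p : R) ^ 2 * sec a1 = (p : R) ^ 2 * lam + (p : R) ^ 2 * sec a2 := by rw [hlam]; ring
    have hc1 := hc (sec a1)
    rw [hx] at hc1
    have hcp' : ∀ lam k, (p : R) ^ k ∣ c lam k := by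
      intro lam k
      rcases Nat.eq_zero_or_pos k with rfl | hk
      · simp
      · exact (pow_dvd_pow _ (by omega)).trans (hcp lam k (by omega))
    have h1 := Ex_add (hc lam) (hc (sec a2)) hc1 (n + 1) ((p : R) ^ n) (fun l m hlm => by
      refine (pow_dvd_pow _ (show n ≤ l + m by omega)).trans ?_
      rw [pow_add]
      exact mul_dvd_mul (hcp' lam l) (hcp' (sec a2) m)) (WithConv.toConv (t n) : D R (Φ.B n))
    obtain ⟨y, hy⟩ := h1
    rw [← Algebra.smul_def] at hy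
    have h6 := congrArg (fun z : D R (Φ.B n) => z x) hy
    exact ⟨y x, h6⟩
  have hG3 := chain_unique hG hh hpu b ((hG1 lam).mul (hG1 (sec a2))) (hG1 (sec a1)) hadd (2 * e) (2 * e + 3) 3 rfl
  have hG4 : G lam (2 * e) (2 * e + 3) 3 * G (sec a2) (2 * e) (2 * e + 3) 3 = G (sec a1) (2 * e) (2 * e + 3) 3 := hG3
  have hone : qc _ π (G lam (2 * e) (2 * e + 3) 3) = 1 := by
    have h1 := congrArg (qc _ π) hG4
    rw [map_mul] at h1
    have h2 : qc _ π (G (sec a1) (2 * e) (2 * e + 3) 3) = qc _ π (G (sec a2) (2 * e) (2 * e + 3) 3) :=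
      congrArg WithConv.toConv hρ
    rw [h2] at h1
    exact mul_eq_right.1 h1
  obtain ⟨J, hJ⟩ : ∃ J : Ideal (Q R p 3), J = (IsLocalRing.maximalIdeal R).map (Ideal.Quotient.mk _) := ⟨_, rfl⟩
  have hpJ : (p : Q R p 3) ∈ J := by
    rw [hJ, ← map_natCast (Ideal.Quotient.mk _)]
    exact Ideal.mem_map_of_mem _ hp
  have hdesc : ∀ s : ℕ, ∀ j n : ℕ, j + (s + 1) = 2 * e + 1 → n = j + 3 → ∀ x : Φ.B n,
      Coalgebra.counit (R := R) x = 0 → (G lam j n 3).ofConv x ∈ J ^ (s + 1) := by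
    intro s
    induction s with
    | zero =>
      intro j n hj hn x hx
      obtain rfl : j = 2 * e := by omega
      subst hn
      have h1 : π ((G lam (2 * e) (2 * e + 3) 3).ofConv x) = 0 := by
        have h2 := congrArg (fun f : WithConv (Φ.B (2 * e + 3) →ₐ[R] IsLocalRing.ResidueField R) => f.ofConv x) hone
        have h3 : π ((G lam (2 * e) (2 * e + 3) 3).ofConv x) =
          algebraMap R (IsLocalRing.ResidueField R) (Coalgebra.counit (R := R) x) := h2
        rw [h3, hx, map_zero]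
      obtain ⟨r, hr⟩ := Ideal.Quotient.mk_surjective ((G lam (2 * e) (2 * e + 3) 3).ofConv x)
      rw [← hr, hπ, IsLocalRing.residue_eq_zero_iff] at h1
      rw [← hr, zero_add, pow_one, hJ]
      exact Ideal.mem_map_of_mem _ h1
    | succ s ih =>
      intro j n hj hn x hx
      have h1 := raise Φ J hpJ n (s + 1) (by omega) (G lam (j + 1) (n + 1) 3)
        (ih (j + 1) (n + 1) (by omega) (by omega)) x hx
      have h2 := ((hG1 lam) j).2.2 n 3 hn
      rw [← h2]
      exact h1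
  have h1 := hdesc (2 * e) 0 3 (by omega) rfl a ha
  rw [hG2, hg3, hJ, ← Ideal.map_pow] at h1
  obtain ⟨r, hr, hr'⟩ := (Ideal.mem_map_iff_of_surjective _ Ideal.Quotient.mk_surjective).1 h1
  rw [Ideal.Quotient.eq] at hr'
  have hp3 : Ideal.span {(p : R) ^ 3} ≤ IsLocalRing.maximalIdeal R ^ (2 * e + 1) := by
    rw [← Ideal.span_singleton_pow, he, ← pow_mul]
    exact Ideal.pow_le_pow_right (by omega)
  have h2 : (Ex (c lam) (3 + 1) (WithConv.toConv (t 3) : D R (Φ.B 3)) : D R (Φ.B 3)) a ∈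
      IsLocalRing.maximalIdeal R ^ (2 * e + 1) := by
    have h3 := Ideal.sub_mem _ hr (hp3 hr')
    rwa [sub_sub_cancel] at h3
  have h4 := Ex_four (c lam) 3 (WithConv.toConv (t 3) : D R (Φ.B 3)) a ha
  have h5 : (Ex (c lam) (3 + 1) (WithConv.toConv (t 3) : D R (Φ.B 3)) : D R (Φ.B 3)) a =
      (Ex (c lam) 4 (WithConv.toConv (t 3) : D R (Φ.B 3)) : D R (Φ.B 3)) a := rfl
  rw [h5, h4, (hc lam).one] at h2
  have hmem : ∀ k, 2 ≤ k → c lam k ∈ IsLocalRing.maximalIdeal R ^ (2 * e + 1) := by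
    intro k hk
    apply hp3
    rw [Ideal.mem_span_singleton]
    exact (pow_dvd_pow _ (by omega)).trans (hcp lam k (by omega))
  have h6 : (p : R) ^ 2 * (lam * t 3 a) ∈ IsLocalRing.maximalIdeal R ^ (2 * e + 1) := by
    have h7 := Ideal.sub_mem _ (Ideal.sub_mem _ h2
      (Ideal.mul_mem_right ((WithConv.toConv (t 3) ^ 3 : D R (Φ.B 3)) a) _ (hmem 3 (by norm_num))))
      (Ideal.mul_mem_right ((WithConv.toConv (t 3) ^ 2 : D R (Φ.B 3)) a) _ (hmem 2 (by norm_num)))
    have h8 : (WithConv.toConv (t 3) : D R (Φ.B 3)) a = t 3 a := rfl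
    rw [h8] at h7
    convert h7 using 1
    ring
  rw [pow_succ, mul_comm 2 e, pow_mul, ← he, Ideal.span_singleton_pow, Ideal.mem_span_singleton_mul] at h6
  obtain ⟨z, hz, hz'⟩ := h6
  have h9 : z = lam * t 3 a := mul_left_cancel₀ (pow_ne_zero 2 hp0) hz'
  rw [h9] at hz
  exact ((IsLocalRing.maximalIdeal.isMaximal R).isPrime.mem_or_mem hz).resolve_left hlu

/-- Node (III). -/
theorem main (hbas : NBas.{u}) : NInj.{u} := by
  intro R K Kb _ _ _ _ _ _ _ _ _ _ _ _ _ _ _ p h _ hp Φ t ht hev b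
  have hG := good R K Kb
  have hinj := inj_Kb R K Kb
  have halg : Algebra.IsAlgebraic R Kb := by
    exact (IsFractionRing.comap_isAlgebraic_iff (A := R) (K := K) (C := Kb)).2 inferInstance
  have hhens : HenselianLocalRing R :=
    { is_henselian := fun f hf a₀ h₁ h₂ => HenselianRing.is_henselian (I := IsLocalRing.maximalIdeal R) f hf a₀ h₁
        (h₂.map (Ideal.Quotient.mk (IsLocalRing.maximalIdeal R))) }
  have hval : ValuationRing (integralClosure R Kb) := K26.ComplVal.valuationRing_integralClosure R Kb hinj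
  obtain ⟨z, e, e', hz, -, hpair, hx, hy⟩ := hbas R K Kb p h Φ
  let bs : Bas Φ (integralClosure R Kb) :=
    { z := z, e := e, e' := e', hz := hz, pair := hpair, gen := fun n y => (hy n y).2, tor := fun n y => (hy n y).1 }
  have hev' : ∀ n (w : WithConv (D R (Φ.B n) →ₐ[R] integralClosure R Kb)),
      (p : integralClosure R Kb) ^ n ∣ w.ofConv (WithConv.toConv (t n)) := by
    intro n w
    obtain ⟨y, rfl⟩ := bs.exists_ext n w
    have h1 := hev y n
    have h2 : Φ.ev t n (y.1 n) = (y.1 n).ofConv (WithConv.toConv (t n)) :=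
      pr_io (S := integralClosure R Kb) (WithConv.toConv (t n) : D R (Φ.B n)) (y.1 n).ofConv.toLinearMap
    rwa [h2] at h1
  have key := main_O hG hp bs t ht hev'
  have hpm : ∀ (k : ℕ) (r : R), (p : R) ^ (k + 1) ∣ r → r ∈ IsLocalRing.maximalIdeal R := by
    rintro k r ⟨s, rfl⟩
    exact Ideal.mul_mem_right _ _ (Ideal.pow_mem_of_mem _ hp (k + 1) (by omega))
  have h1 : t 1 1 ∈ IsLocalRing.maximalIdeal R := by
    have h2 := ht.der 1 1 1
    simp only [mul_one, Bialgebra.counit_one, one_mul] at h2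
    have h3 : t 1 1 - (t 1 1 + t 1 1) = - t 1 1 := by ring
    rw [h3, dvd_neg] at h2
    exact hpm 0 _ (by simpa using h2)
  obtain ⟨b', hb'⟩ : ∃ b' : Φ.B 1, b' = b - algebraMap R _ (Coalgebra.counit (R := R) b) := ⟨_, rfl⟩
  have h4 : t 1 b = t 1 b' + Coalgebra.counit (R := R) b * t 1 1 := by
    rw [hb', map_sub, Algebra.algebraMap_eq_smul_one, map_smul, smul_eq_mul, sub_add_cancel]
  rw [h4]
  refine Ideal.add_mem _ ?_ (Ideal.mul_mem_left _ _ h1)
  obtain ⟨b'', rfl⟩ := Φ.res_surj 1 b'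
  obtain ⟨a, rfl⟩ := Φ.res_surj 2 b''
  have ha : Coalgebra.counit (R := R) a = 0 := by
    rw [← counit_res, ← counit_res, hb', map_sub, Bialgebra.counit_algebraMap, sub_self]
  have h5 := key a ha
  have h6 := hpm 1 _ (ht.compat 2 a)
  have h7 := hpm 0 _ (ht.compat 1 (Φ.res 2 a))
  have h8 : t 1 (Φ.res 1 (Φ.res 2 a)) = t 3 a - (t (2 + 1) a - t 2 (Φ.res 2 a)) -
    (t (1 + 1) (Φ.res 2 a) - t 1 (Φ.res 1 (Φ.res 2 a))) := by ring
  rw [h8]
  exact Ideal.sub_mem _ (Ideal.sub_mem _ h5 h6) h7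

end Final

end K144.Tate
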