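import Groth.Agent.SGA7.K564.Tate.Defs
import Groth.Agent.Hopf.K503.QuotCoact
import Mathlib.RingTheory.LocalRing.Module
import Mathlib.RingTheory.HopfAlgebra.TensorProduct

/-!
# Structure of the layers of a Barsotti-Tate system: `B (n+1)` is free over `B n` of rank `p^h`
-/

set_option autoImplicit false
universe u v

open TensorProduct CartDual K564.Tate

namespace K144.Tate

variable {R : Type u} [CommRing R] {p h : ℕ} (Φ : Sys R p h)

/-- restriction to the first layer -/
noncomputable def res1 : ∀ n, Φ.B (n + 1) →ₐc[R] Φ.B 1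
  | 0 => BialgHom.id R _
  | n + 1 => (res1 n).comp (Φ.res (n + 1))

theorem res1_zero (b : Φ.B 1) : res1 Φ 0 b = b := rfl

theorem res1_succ (n : ℕ) (b : Φ.B (n + 2)) : res1 Φ (n + 1) b = res1 Φ n (Φ.res (n + 1) b) := rfl

theorem res1_surj : ∀ n, Function.Surjective (res1 Φ n)
  | 0 => fun b => ⟨b, rfl⟩
  | n + 1 => fun b => by
    obtain ⟨a, ha⟩ := res1_surj n b
    obtain ⟨c, hc⟩ := Φ.res_surj (n + 1) a
    exact ⟨c, by rw [res1_succ, hc, ha]⟩

theorem counit_res (n : ℕ) (b : Φ.B (n + 1)) :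
    Coalgebra.counit (R := R) (Φ.res n b) = Coalgebra.counit (R := R) b :=
  CoalgHomClass.counit_comp_apply (Φ.res n) b

theorem counit_inf (n : ℕ) (b : Φ.B n) :
    Coalgebra.counit (R := R) (Φ.inf n b) = Coalgebra.counit (R := R) b :=
  CoalgHomClass.counit_comp_apply (Φ.inf n) b

theorem counit_res1 (n : ℕ) (b : Φ.B (n + 1)) :
    Coalgebra.counit (R := R) (res1 Φ n b) = Coalgebra.counit (R := R) b :=
  CoalgHomClass.counit_comp_apply (res1 Φ n) b

theorem res_inf_eq_inf_res (n : ℕ) (b : Φ.B (n + 1)) :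
    Φ.res (n + 1) (Φ.inf (n + 1) b) = Φ.inf n (Φ.res n b) := by
  have h1 := Φ.res_inf (n + 1)
  have h2 := Φ.inf_res n
  have h3 : (Φ.res (n + 1)).comp (Φ.inf (n + 1)) = (Φ.inf n).comp (Φ.res n) := h1.trans h2.symm
  exact DFunLike.congr_fun h3 b

theorem B_zero_eq [Nontrivial R] (a : Φ.B 0) : a = algebraMap R (Φ.B 0) (Coalgebra.counit (R := R) a) := by
  have hr := Φ.rank 0
  rw [zero_mul, pow_zero] at hr
  have e : Φ.B 0 ≃ₗ[R] R := LinearEquiv.ofFinrankEq (Φ.B 0) R (by rw [hr, Module.finrank_self])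
  have hs : Function.Surjective (Coalgebra.counit (R := R) (A := Φ.B 0)) := fun r =>
    ⟨algebraMap R _ r, by simp⟩
  have hinj : Function.Injective (Coalgebra.counit (R := R) (A := Φ.B 0)) := by
    have h1 : Function.Surjective ((Coalgebra.counit (R := R) (A := Φ.B 0)) ∘ₗ e.symm.toLinearMap) :=
      hs.comp e.symm.surjective
    have h2 := OrzechProperty.injective_of_surjective_endomorphism _ h1
    intro x y hxy
    have h3 : e x = e y := h2 (by simpa using hxy)
    exact e.injective h3
  apply hinj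
  simp

theorem res1_inf [Nontrivial R] : ∀ n (a : Φ.B n), res1 Φ n (Φ.inf n a) = algebraMap R (Φ.B 1) (Coalgebra.counit (R := R) a)
  | 0 => fun a => by
    rw [res1_zero]
    conv_lhs => rw [B_zero_eq Φ a]
    exact AlgHomClass.commutes (Φ.inf 0) _
  | n + 1 => fun a => by
    rw [res1_succ, res_inf_eq_inf_res, res1_inf n, counit_res]

section Gen

theorem coinv_of_trivial {k : Type u} [Field k] {C A H : Type u} [CommRing C] [HopfAlgebra k C] [CommRing A]
    [HopfAlgebra k A] [CommRing H] [HopfAlgebra k H] (φ : C →ₐc[k] A) (π : A →ₐc[k] H)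
    (h : ∀ c, π (φ c) = algebraMap k H (Coalgebra.counit (R := k) c)) (c : C) : φ c ∈ K503.QuotCoact.B π := by
  rw [K503.QuotCoact.mem_B]
  have h1 : Bialgebra.comulAlgHom k A (φ c) =
      TensorProduct.map (φ : C →ₐ[k] A).toLinearMap (φ : C →ₐ[k] A).toLinearMap (Coalgebra.comul (R := k) c) := by
    have := CoalgHomClass.map_comp_comul_apply φ c
    exact this.symm
  rw [h1]
  have h2 : (Algebra.TensorProduct.map (AlgHom.id k A) (π : A →ₐ[k] H)).toLinearMap ∘ₗ
      TensorProduct.map (φ : C →ₐ[k] A).toLinearMap (φ : C →ₐ[k] A).toLinearMap =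
      TensorProduct.map (φ : C →ₐ[k] A).toLinearMap (Algebra.linearMap k H) ∘ₗ
        (Coalgebra.counit (R := k) (A := C)).lTensor C := by
    apply TensorProduct.ext'
    intro x y
    simp only [LinearMap.coe_comp, Function.comp_apply, TensorProduct.map_tmul, AlgHom.toLinearMap_apply,
      LinearMap.lTensor_tmul, Algebra.linearMap_apply]
    change φ x ⊗ₜ[k] π (φ y) = _
    rw [h]
    rfl
  have h3 := LinearMap.congr_fun h2 (Coalgebra.comul (R := k) c)
  refine h3.trans ?_
  rw [LinearMap.comp_apply, Coalgebra.lTensor_counit_comul, TensorProduct.map_tmul]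
  simp

theorem gen_basis {k : Type u} [Field k] {C A H : Type u} [CommRing C] [HopfAlgebra k C] [CommRing A]
    [HopfAlgebra k A] [CommRing H] [HopfAlgebra k H] [Module.Finite k C] [Module.Finite k A] [Module.Finite k H]
    (φ : C →ₐc[k] A) (π : A →ₐc[k] H)
    (hφ : Function.Injective φ) (hs : Function.Surjective π)
    (h : ∀ c, π (φ c) = algebraMap k H (Coalgebra.counit (R := k) c))
    (hr : Module.finrank k A = Module.finrank k C * Module.finrank k H) {r : ℕ} (hrr : Module.finrank k H = r) :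
    ∃ v : Fin r → A, Function.Bijective fun a : Fin r → C => ∑ i, φ (a i) * v i := by
  subst hrr
  obtain ⟨b⟩ := K503.QuotCoact.nonempty_basis π hs
  have hrk := K503.QuotCoact.finrank_eq π hs
  have hmem := coinv_of_trivial φ π h
  obtain ⟨i, hi⟩ : ∃ i : C →ₗ[k] K503.QuotCoact.B π, ∀ c, ((i c : K503.QuotCoact.B π) : A) = φ c :=
    ⟨{ toFun := fun c => ⟨φ c, hmem c⟩
       map_add' := fun x y => Subtype.ext (map_add φ x y)
       map_smul' := fun r x => Subtype.ext (map_smul φ r x) }, fun c => rfl⟩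
  have hinj : Function.Injective i := fun x y hxy => hφ (by rw [← hi, ← hi, hxy])
  have : Module.Finite k (K503.QuotCoact.B π) :=
    Module.Finite.of_injective (K503.QuotCoact.B π).val.toLinearMap Subtype.val_injective
  have hH : 0 < Module.finrank k H := by
    have : Nontrivial H := by
      refine ⟨0, 1, fun h0 => ?_⟩
      have h1 := congrArg (Bialgebra.counitAlgHom k H) h0
      rw [map_zero, map_one] at h1
      exact zero_ne_one h1
    exact Module.finrank_pos
  have hfr : Module.finrank k C = Module.finrank k (K503.QuotCoact.B π) := by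
    rw [hr] at hrk
    exact Nat.eq_of_mul_eq_mul_right hH hrk
  have hbij : Function.Bijective i := ⟨hinj, (LinearMap.injective_iff_surjective_of_finrank_eq_finrank hfr).1 hinj⟩
  refine ⟨b, ?_, ?_⟩
  · intro x y hxy
    have h1 : ∑ l, i (x l) • b l = ∑ l, i (y l) • b l := by
      have e : ∀ (x : Fin (Module.finrank k H) → C), ∑ l, i (x l) • b l = ∑ l, φ (x l) * b l := fun x =>
        Finset.sum_congr rfl fun l _ => by rw [← hi]; rfl
      rw [e, e]; exact hxy
    rw [← sub_eq_zero, ← Finset.sum_sub_distrib] at h1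
    simp only [← sub_smul] at h1
    have h2 := Fintype.linearIndependent_iff.1 b.linearIndependent (fun l => i (x l) - i (y l)) h1
    funext l
    exact hinj (sub_eq_zero.1 (h2 l))
  · intro z
    choose a ha using fun l => hbij.2 (b.repr z l)
    refine ⟨a, ?_⟩
    have h1 := b.sum_repr z
    change ∑ l, φ (a l) * b l = z
    rw [← h1]
    refine Finset.sum_congr rfl fun l _ => ?_
    rw [← ha l, ← hi]
    rfl

end Gen

section Fibre

variable {R : Type u} [CommRing R] [IsLocalRing R] {p h : ℕ} (Φ : Sys R p h)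

local notation "κ" => IsLocalRing.ResidueField R

/-- base change of a bialgebra map to the residue field -/
noncomputable def bck {A B : Type u} [CommRing A] [HopfAlgebra R A] [CommRing B] [HopfAlgebra R B]
    (f : A →ₐc[R] B) : κ ⊗[R] A →ₐc[κ] κ ⊗[R] B :=
  Bialgebra.TensorProduct.map (BialgHom.id κ κ) f

theorem bck_tmul {A B : Type u} [CommRing A] [HopfAlgebra R A] [CommRing B] [HopfAlgebra R B]
    (f : A →ₐc[R] B) (c : κ) (a : A) : bck f (c ⊗ₜ a) = c ⊗ₜ f a := rfl

theorem bck_triv (n : ℕ) (c : κ ⊗[R] Φ.B n) :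
    bck (res1 Φ n) (bck (Φ.inf n) c) = algebraMap κ (κ ⊗[R] Φ.B 1) (Coalgebra.counit (R := κ) c) := by
  induction c with
  | zero => simp
  | add x y hx hy => simp only [map_add, hx, hy]
  | tmul c a =>
    rw [bck_tmul, bck_tmul, res1_inf]
    rw [Algebra.TensorProduct.algebraMap_apply]
    simp [Algebra.algebraMap_eq_smul_one, TensorProduct.tmul_smul, TensorProduct.smul_tmul']

theorem one_tmul_zero {M : Type u} [AddCommGroup M] [Module R M] (x : M) (hx : (1 : κ) ⊗ₜ[R] x = 0) :
    x ∈ (IsLocalRing.maximalIdeal R) • (⊤ : Submodule R M) := by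
  have h : TensorProduct.quotTensorEquivQuotSMul M (IsLocalRing.maximalIdeal R) ((1 : κ) ⊗ₜ[R] x) = 0 := by
    have h0 := congrArg (TensorProduct.quotTensorEquivQuotSMul M (IsLocalRing.maximalIdeal R)) hx
    exact h0.trans (map_zero (TensorProduct.quotTensorEquivQuotSMul M (IsLocalRing.maximalIdeal R)))
  have h2 := TensorProduct.quotTensorEquivQuotSMul_mk_one_tmul (IsLocalRing.maximalIdeal R) x
  rw [← Submodule.Quotient.mk_eq_zero, ← h2]
  exact h

theorem exists_one_tmul {M : Type u} [AddCommGroup M] [Module R M] (z : κ ⊗[R] M) : ∃ x : M, z = (1 : κ) ⊗ₜ[R] x := by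
  induction z with
  | zero => exact ⟨0, by simp⟩
  | add x y hx hy =>
    obtain ⟨a, rfl⟩ := hx
    obtain ⟨b, rfl⟩ := hy
    exact ⟨a + b, by rw [TensorProduct.tmul_add]⟩
  | tmul c a =>
    obtain ⟨r, rfl⟩ := IsLocalRing.residue_surjective c
    refine ⟨r • a, ?_⟩
    rw [TensorProduct.tmul_smul, TensorProduct.smul_tmul']
    congr 1
    rw [Algebra.smul_def, mul_one]
    rfl

end Fibre

section DVR

variable {R : Type u} [CommRing R] [IsDomain R] [IsDiscreteValuationRing R] {p h : ℕ} (Φ : Sys R p h)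

local notation "κ" => IsLocalRing.ResidueField R

theorem bck_inf_injective (n : ℕ) : Function.Injective (bck (Φ.inf n)) := by
  rw [injective_iff_map_eq_zero]
  intro z hz
  obtain ⟨x, rfl⟩ := exists_one_tmul z
  rw [bck_tmul] at hz
  have h1 := one_tmul_zero _ hz
  obtain ⟨ϖ, hϖ⟩ := IsDiscreteValuationRing.exists_irreducible R
  have hm : IsLocalRing.maximalIdeal R = Ideal.span {ϖ} := hϖ.maximalIdeal_eq
  rw [hm, Submodule.ideal_span_singleton_smul] at h1
  obtain ⟨b, -, hb⟩ := h1
  have hb' : Φ.inf n x = ϖ • b := hb.symm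
  obtain ⟨a, ha⟩ := Φ.inf_sat n ϖ b hϖ.ne_zero ⟨x, hb'⟩
  have hxa : x = ϖ • a := by
    apply Φ.inf_inj n
    rw [hb', ← ha]
    exact (map_smul (Φ.inf n) ϖ a).symm
  have h0 : algebraMap R κ ϖ = 0 := by
    rw [IsLocalRing.ResidueField.algebraMap_eq, IsLocalRing.residue_eq_zero_iff, hm]
    exact Ideal.mem_span_singleton_self ϖ
  rw [hxa, TensorProduct.tmul_smul, TensorProduct.smul_tmul', Algebra.smul_def, h0, zero_mul, TensorProduct.zero_tmul]

theorem exists_fibre_basis [Fact p.Prime] (n : ℕ) : ∃ v : Fin (p ^ h) → κ ⊗[R] Φ.B (n + 1),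
    Function.Bijective fun a : Fin (p ^ h) → κ ⊗[R] Φ.B n => ∑ i, bck (Φ.inf n) (a i) * v i := by
  have hcard : Module.finrank κ (κ ⊗[R] Φ.B 1) = p ^ h := by
    rw [Module.finrank_baseChange, Φ.rank, one_mul]
  refine gen_basis (bck (Φ.inf n)) (bck (res1 Φ n)) (bck_inf_injective Φ n) ?_ (bck_triv Φ n) ?_ hcard
  · intro z
    obtain ⟨x, rfl⟩ := exists_one_tmul z
    obtain ⟨y, rfl⟩ := res1_surj Φ n x
    exact ⟨1 ⊗ₜ y, by rw [bck_tmul]⟩
  · rw [Module.finrank_baseChange, Module.finrank_baseChange, Φ.rank, Φ.rank, hcard, ← pow_add]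
    congr 1; ring

/-- `B (n+1)` is free of rank `p^h` over `B n` through `inf n`. -/
theorem exists_basis [Fact p.Prime] (n : ℕ) : ∃ v : Fin (p ^ h) → Φ.B (n + 1),
    Function.Bijective fun a : Fin (p ^ h) → Φ.B n => ∑ i, Φ.inf n (a i) * v i := by
  obtain ⟨v', hv'⟩ := exists_fibre_basis Φ n
  choose v hv using fun i => exists_one_tmul (v' i)
  obtain ⟨F, hF⟩ : ∃ F : (Fin (p ^ h) → Φ.B n) →ₗ[R] Φ.B (n + 1), ∀ a, F a = ∑ i, Φ.inf n (a i) * v i :=
    ⟨{ toFun := fun a => ∑ i, Φ.inf n (a i) * v i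
       map_add' := fun x y => by simp [add_mul, Finset.sum_add_distrib]
       map_smul' := fun r x => by
        rw [Finset.smul_sum]
        refine Finset.sum_congr rfl fun i _ => ?_
        rw [Pi.smul_apply, map_smul, smul_mul_assoc]
        rfl }, fun a => rfl⟩
  have hsurj : Function.Surjective F := by
    rw [← LinearMap.range_eq_top, ← top_le_iff]
    refine Submodule.le_of_le_smul_of_le_jacobson_bot (I := IsLocalRing.maximalIdeal R) Module.Finite.fg_top
      (IsLocalRing.maximalIdeal_le_jacobson _) ?_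
    intro b _
    obtain ⟨a', ha'⟩ := hv'.2 ((1 : κ) ⊗ₜ[R] b)
    choose a ha using fun i => exists_one_tmul (a' i)
    have h1 : (1 : κ) ⊗ₜ[R] (b - F a) = 0 := by
      rw [TensorProduct.tmul_sub, ← ha', hF, TensorProduct.tmul_sum, sub_eq_zero]
      refine Finset.sum_congr rfl fun i _ => ?_
      rw [hv i, ha i, bck_tmul, Algebra.TensorProduct.tmul_mul_tmul, one_mul]
    have h2 := one_tmul_zero _ h1
    rw [Submodule.mem_sup]
    exact ⟨F a, ⟨a, rfl⟩, b - F a, h2, by abel⟩
  have hrk : Module.finrank R (Φ.B (n + 1)) = Module.finrank R (Fin (p ^ h) → Φ.B n) := by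
    rw [Module.finrank_pi_fintype, Finset.sum_const, Finset.card_univ, Fintype.card_fin, Φ.rank, Φ.rank, smul_eq_mul,
      ← pow_add]
    congr 1; ring
  have hinj : Function.Injective F := by
    let e := LinearEquiv.ofFinrankEq (Φ.B (n + 1)) (Fin (p ^ h) → Φ.B n) hrk
    have h1 : Function.Surjective (e.toLinearMap ∘ₗ F) := e.surjective.comp hsurj
    have h2 := OrzechProperty.injective_of_surjective_endomorphism _ h1
    intro x y hxy
    exact h2 (by simp only [LinearMap.coe_comp, Function.comp_apply, hxy])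
  refine ⟨v, ?_⟩
  have e : (fun a : Fin (p ^ h) → Φ.B n => ∑ i, Φ.inf n (a i) * v i) = F := by
    funext a; rw [hF]
  rw [e]
  exact ⟨hinj, hsurj⟩

end DVR

section Ker

variable {R : Type u} [CommRing R]

theorem mem_map_iff {A B : Type u} [CommRing A] [CommRing B] {r : ℕ} (f : A →+* B) (v : Fin r → B)
    (hv : Function.Bijective fun a : Fin r → A => ∑ i, f (a i) * v i) (J : Ideal A) (a : Fin r → A) :
    ∑ i, f (a i) * v i ∈ J.map f ↔ ∀ i, a i ∈ J := by
  constructor
  · intro h
    have key : ∀ b ∈ J.map f, ∃ c : Fin r → A, (∀ i, c i ∈ J) ∧ b = ∑ i, f (c i) * v i := by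
      intro b hb
      refine Submodule.span_induction ?_ ?_ ?_ ?_ hb
      · rintro _ ⟨x, hx, rfl⟩
        obtain ⟨c, hc⟩ := hv.2 1
        refine ⟨fun i => x * c i, fun i => J.mul_mem_right _ hx, ?_⟩
        have hc' : ∑ i, f (c i) * v i = 1 := hc
        calc f x = f x * ∑ i, f (c i) * v i := by rw [hc', mul_one]
          _ = _ := by
            rw [Finset.mul_sum]
            refine Finset.sum_congr rfl fun i _ => ?_
            rw [map_mul]; ring
      · exact ⟨0, fun i => J.zero_mem, by simp⟩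
      · rintro x y - - ⟨c, hc, rfl⟩ ⟨d, hd, rfl⟩
        refine ⟨fun i => c i + d i, fun i => J.add_mem (hc i) (hd i), ?_⟩
        rw [← Finset.sum_add_distrib]
        refine Finset.sum_congr rfl fun i _ => ?_
        rw [map_add]; ring
      · rintro y x - ⟨c, hc, rfl⟩
        choose w hw using fun i => hv.2 (y * v i)
        refine ⟨fun l => ∑ i, w i l * c i, fun l => J.sum_mem fun i _ => J.mul_mem_left _ (hc i), ?_⟩
        have hw' : ∀ i, ∑ l, f (w i l) * v l = y * v i := fun i => hw i
        rw [smul_eq_mul, Finset.mul_sum]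
        calc ∑ i, y * (f (c i) * v i) = ∑ i, f (c i) * (∑ l, f (w i l) * v l) := by
              refine Finset.sum_congr rfl fun i _ => ?_
              rw [hw']; ring
          _ = ∑ i, ∑ l, f (c i) * (f (w i l) * v l) := by
              refine Finset.sum_congr rfl fun i _ => ?_
              rw [Finset.mul_sum]
          _ = ∑ l, ∑ i, f (c i) * (f (w i l) * v l) := Finset.sum_comm
          _ = _ := by
              refine Finset.sum_congr rfl fun l _ => ?_
              rw [map_sum, Finset.sum_mul]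
              refine Finset.sum_congr rfl fun i _ => ?_
              rw [map_mul]; ring
    obtain ⟨c, hc, he⟩ := key _ h
    have : a = c := hv.1 he
    rw [this]; exact hc
  · intro h
    exact Ideal.sum_mem _ fun i _ => Ideal.mul_mem_right _ _ (Ideal.mem_map_of_mem f (h i))

theorem inj_of_surj {M N : Type u} [AddCommGroup M] [Module R M] [AddCommGroup N] [Module R N] [Module.Finite R M]
    [Module.Free R M] [Module.Finite R N] [Module.Free R N] [Nontrivial R] (F : M →ₗ[R] N)
    (hrk : Module.finrank R M = Module.finrank R N) (hF : Function.Surjective F) : Function.Injective F := by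
  let e := LinearEquiv.ofFinrankEq N M hrk.symm
  have h1 : Function.Surjective (e.toLinearMap ∘ₗ F) := e.surjective.comp hF
  have h2 := OrzechProperty.injective_of_surjective_endomorphism _ h1
  intro x y hxy
  exact h2 (by simp only [LinearMap.coe_comp, Function.comp_apply, hxy])

end Ker

section Exact

variable {R : Type u} [CommRing R] [IsDomain R] [IsDiscreteValuationRing R] {p h : ℕ} [Fact p.Prime] (Φ : Sys R p h)

/-- the preimage of `G_n` under `p : G_(n+2) → G_(n+1)` is `G_(n+1)`. -/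
theorem ker_res_succ (n : ℕ) : RingHom.ker (Φ.res (n + 1)) = (RingHom.ker (Φ.res n)).map (Φ.inf (n + 1)) := by
  obtain ⟨v, hv⟩ := exists_basis Φ (n + 1)
  obtain ⟨G, hG⟩ : ∃ G : (Fin (p ^ h) → Φ.B n) →ₗ[R] Φ.B (n + 1),
      ∀ a, G a = ∑ i, Φ.inf n (a i) * Φ.res (n + 1) (v i) :=
    ⟨{ toFun := fun a => ∑ i, Φ.inf n (a i) * Φ.res (n + 1) (v i)
       map_add' := fun x y => by simp [add_mul, Finset.sum_add_distrib]
       map_smul' := fun r x => by
        rw [Finset.smul_sum]
        refine Finset.sum_congr rfl fun i _ => ?_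
        rw [Pi.smul_apply, map_smul, smul_mul_assoc]
        rfl }, fun a => rfl⟩
  have hres : ∀ a : Fin (p ^ h) → Φ.B (n + 1), Φ.res (n + 1) (∑ i, Φ.inf (n + 1) (a i) * v i) =
      G (fun i => Φ.res n (a i)) := by
    intro a
    rw [hG, map_sum]
    refine Finset.sum_congr rfl fun i _ => ?_
    rw [map_mul, res_inf_eq_inf_res]
  have hGs : Function.Surjective G := by
    intro b
    obtain ⟨c, rfl⟩ := Φ.res_surj (n + 1) b
    obtain ⟨a, rfl⟩ := hv.2 c
    exact ⟨_, (hres a).symm⟩
  have hGi : Function.Injective G := by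
    refine inj_of_surj G ?_ hGs
    rw [Module.finrank_pi_fintype, Finset.sum_const, Finset.card_univ, Fintype.card_fin, Φ.rank, Φ.rank, smul_eq_mul,
      ← pow_add]
    congr 1; ring
  apply le_antisymm
  · intro b hb
    obtain ⟨a, rfl⟩ := hv.2 b
    have h1 : G (fun i => Φ.res n (a i)) = 0 := (hres a).symm.trans hb
    have h2 := hGi (h1.trans (map_zero G).symm)
    refine (mem_map_iff (Φ.inf (n + 1) : Φ.B (n + 1) →+* Φ.B (n + 2)) v hv _ a).2 fun i => ?_
    exact congrFun h2 i
  · rw [Ideal.map_le_iff_le_comap]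
    intro x hx
    change Φ.res (n + 1) (Φ.inf (n + 1) x) = 0
    rw [res_inf_eq_inf_res, show Φ.res n x = 0 from hx, map_zero]

/-- the kernel of `p^n : G_(n+1) → G_n` is `G_1`. -/
theorem ker_res1 (n : ℕ) : RingHom.ker (res1 Φ n) = (RingHom.ker (Bialgebra.counitAlgHom R (Φ.B n))).map (Φ.inf n) := by
  obtain ⟨v, hv⟩ := exists_basis Φ n
  obtain ⟨G, hG⟩ : ∃ G : (Fin (p ^ h) → R) →ₗ[R] Φ.B 1,
      ∀ a, G a = ∑ i, a i • res1 Φ n (v i) :=
    ⟨{ toFun := fun a => ∑ i, a i • res1 Φ n (v i)
       map_add' := fun x y => by simp [add_smul, Finset.sum_add_distrib]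
       map_smul' := fun r x => by
        rw [Finset.smul_sum]
        refine Finset.sum_congr rfl fun i _ => ?_
        rw [Pi.smul_apply, smul_smul]
        rfl }, fun a => rfl⟩
  have hres : ∀ a : Fin (p ^ h) → Φ.B n, res1 Φ n (∑ i, Φ.inf n (a i) * v i) =
      G (fun i => Coalgebra.counit (R := R) (a i)) := by
    intro a
    rw [hG, map_sum]
    refine Finset.sum_congr rfl fun i _ => ?_
    rw [map_mul, res1_inf, Algebra.smul_def]
  have hGs : Function.Surjective G := by
    intro b
    obtain ⟨c, rfl⟩ := res1_surj Φ n b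
    obtain ⟨a, rfl⟩ := hv.2 c
    exact ⟨_, (hres a).symm⟩
  have hGi : Function.Injective G := by
    let e : (Fin (p ^ h) → R) ≃ₗ[R] (Fin (p ^ h) → ULift.{u} R) := LinearEquiv.piCongrRight fun _ => ULift.moduleEquiv.symm
    have h1 : Function.Injective (G ∘ₗ e.symm.toLinearMap) := by
      refine inj_of_surj _ ?_ (hGs.comp e.symm.surjective)
      rw [← e.finrank_eq, Module.finrank_fin_fun, Φ.rank, one_mul]
    intro x y hxy
    have h2 := @h1 (e x) (e y) (by
      simp only [LinearMap.coe_comp, LinearEquiv.coe_coe, Function.comp_apply, LinearEquiv.symm_apply_apply, hxy])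
    exact e.injective h2
  apply le_antisymm
  · intro b hb
    obtain ⟨a, rfl⟩ := hv.2 b
    have h1 : G (fun i => Coalgebra.counit (R := R) (a i)) = 0 := (hres a).symm.trans hb
    have h2 := hGi (h1.trans (map_zero G).symm)
    refine (mem_map_iff (Φ.inf n : Φ.B n →+* Φ.B (n + 1)) v hv _ a).2 fun i => ?_
    exact congrFun h2 i
  · rw [Ideal.map_le_iff_le_comap]
    intro x hx
    change res1 Φ n (Φ.inf n x) = 0
    rw [res1_inf, show Coalgebra.counit (R := R) x = 0 from hx, map_zero]

end Exact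

end K144.Tate
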